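import Cfsg.Agent.Lib.JankoFourClasses.Tools
import Cfsg.Agent.Lib.JankoFourLocals.Facts
import Cfsg.Agent.Lib.JankoFourSevenLocal.Main
import Cfsg.Agent.Lib.JankoFourEleven.Classes

/-!
The classes of elements of prime order at least three in a group of Janko-four type (owner: helper8).
-/

set_option autoImplicit false
set_option maxRecDepth 8000

namespace CfsgLib.JankoFourClasses

open Cfsg CfsgLib.JankoFour CfsgLib.JankoFourLocals

variable {G : Type*} [Group G] [Finite G]

theorem cent_zpowers_eq (y : G) : cent (Subgroup.zpowers y) = Subgroup.centralizer ({y} : Set G) := by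
  show Subgroup.centralizer ((Subgroup.zpowers y : Subgroup G) : Set G) = _
  rw [Subgroup.zpowers_eq_closure, Subgroup.centralizer_closure]

theorem card_cent_of_isConj {a b : G} (h : IsConj a b) :
    Nat.card ↥(Subgroup.centralizer ({a} : Set G)) = Nat.card ↥(Subgroup.centralizer ({b} : Set G)) := by
  obtain ⟨g, hg⟩ := isConj_iff.1 h
  refine Nat.card_congr (Equiv.subtypeEquiv (MulAut.conj g).toEquiv fun c => ?_)
  show c ∈ _ ↔ g * c * g⁻¹ ∈ _
  rw [Subgroup.mem_centralizer_singleton_iff, Subgroup.mem_centralizer_singleton_iff, ← hg]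
  constructor
  · intro e
    calc g * c * g⁻¹ * (g * a * g⁻¹) = g * (c * a) * g⁻¹ := by group
      _ = g * a * g⁻¹ * (g * c * g⁻¹) := by rw [e]; group
  · intro e
    calc c * a = g⁻¹ * (g * c * g⁻¹ * (g * a * g⁻¹)) * g := by group
      _ = a * c := by rw [e]; group

omit [Finite G] in
theorem hasClasses_one {n c : ℕ} {y : G} (hy : orderOf y = n)
    (hc : Nat.card ↥(Subgroup.centralizer ({y} : Set G)) ≤ c) : HasClasses G [(n, c)] :=
  ⟨fun _ => y, fun i => by
    fin_cases i
    exact ⟨hy, hc⟩, fun i j _ => by fin_cases i; fin_cases j; rfl⟩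

/-- A block of classes of generators of a cyclic group. -/
theorem hasClasses_cyclic {n c e k : ℕ} {y : G} (hy : orderOf y = n)
    (hc : Nat.card ↥(Subgroup.centralizer ({y} : Set G)) ≤ c) (he : autCard (Subgroup.zpowers y) ≤ e)
    (hk : (k - 1) * e < Nat.totient n) : HasClasses G (List.replicate k (n, c)) := by
  obtain ⟨x, hx, hxi⟩ := exists_nonconj hy he hk
  refine ⟨fun i => x (Fin.cast List.length_replicate i), fun i => ⟨?_, ?_⟩, fun i j h => ?_⟩
  · simp [(hx _).1]
  · simp only [Fin.getElem_fin, List.getElem_replicate]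
    rw [← cent_zpowers_eq, (hx _).2, cent_zpowers_eq]
    exact hc
  · exact Fin.cast_injective _ (hxi _ _ h)

variable [IsSimpleGroup G] (hG : ¬ IsMulCommutative G) (hJ : IsOfJankoFourType G) (hord : Nat.card G = ord)

include hG hJ hord

theorem hyp_eleven {z : G} (hz : IsOfJankoFourTypeAt z) : CfsgLib.JankoFour.Eleven.Hyp z :=
  ⟨hG, hz, hord, fun p hp y g hy hg => by
    rw [← self_centralising hG hJ hord (p := p) (by exact hp) hy]
    exact Subgroup.mem_centralizer_singleton_iff.2 hg.eq⟩

theorem prime_classes : HasClasses G primeTable := by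
  classical
  have F := facts hG hJ hord
  have hord' : Nat.card G = ord4 := hord
  obtain ⟨z, P, hP⟩ := id hJ
  obtain ⟨S, rfl, rfl⟩ := exists_setting hP
  have hz : IsOfJankoFourTypeAt S.z := ⟨_, hP⟩
  have hF : Nonempty (Frame S) := exists_frame S
  have hH : Nat.card ↥(Subgroup.centralizer ({S.z} : Set G)) = 3 * 2 ^ 13 * 887040 :=
    (CfsgLib.JankoFour.Eleven.card_centralizer_H hG hz).trans (by norm_num)
  have inH : ∀ p : ℕ, p.Prime → p ∣ 3 * 2 ^ 13 * 887040 → ∃ x : G, orderOf x = p ∧ Commute x S.z := by
    intro p hp hd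
    haveI := Fact.mk hp
    obtain ⟨a, ha⟩ := exists_prime_orderOf_dvd_card' (G := ↥(Subgroup.centralizer ({S.z} : Set G))) p (hH ▸ hd)
    exact ⟨a, by rw [Subgroup.orderOf_coe, ha], Subgroup.mem_centralizer_singleton_iff.1 a.2⟩
  -- the identity
  have b1 : HasClasses G [(1, ord)] :=
    hasClasses_one orderOf_one (hord ▸ Nat.card_le_card_of_injective _ Subtype.val_injective)
  -- order three
  have b3 : HasClasses G [(3, 2661120)] := by
    obtain ⟨Fr⟩ := hF
    refine hasClasses_one Fr.hp3 ((Subgroup.card_le_of_le (K := S.C) fun c hc => ?_).trans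
      (Fr.card_C.le.trans (by norm_num)))
    exact Fr.centralizer_le hG (Fr.mem_cent_p.2 (Subgroup.mem_centralizer_singleton_iff.1 hc))
  -- order five
  have b5 : HasClasses G [(5, 6720)] := by
    obtain ⟨q, hq, hqz⟩ := inH 5 (by norm_num) (by norm_num)
    obtain ⟨x, A, C, -⟩ := exists_core_five hG hz (Q := Subgroup.zpowers q) (by rw [Nat.card_zpowers, hq])
      (Subgroup.zpowers_le.2 (Subgroup.mem_centralizer_singleton_iff.2 hqz.eq))
    exact hasClasses_one C.hx C.hcard.le
  -- order seven
  have b7 : HasClasses G (List.replicate 2 (7, 840)) := by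
    obtain ⟨x, hx, hxz⟩ := inH 7 (by norm_num) (by norm_num)
    have hc := Seven.card_cent S hx hxz hG hz
    have hN := Seven.normalizer_card S hx hxz hG hz
    refine hasClasses_cyclic (e := 3) hx hc.le ?_ (by decide)
    have h := card_norm (Subgroup.zpowers x)
    rw [cent_zpowers_eq, show Nat.card ↥(Subgroup.centralizer ({x} : Set G)) = 840 from hc,
      show Nat.card ↥(norm' (Subgroup.zpowers x)) = 3 * 840 from hN] at h
    omega
  -- order eleven
  have b11 : HasClasses G [(11, 31944), (11, 242)] := by
    have h := hyp_eleven hG hJ hord hz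
    obtain ⟨x, U, hS⟩ := h.exists_std
    obtain ⟨w, hw, hwc⟩ := h.exists_second_eleven
    refine ⟨![x, w], ?_, ?_⟩
    · intro i
      fin_cases i
      · exact ⟨hS.hx, hS.card_X.le.trans (by norm_num)⟩
      · exact ⟨hw, hwc.le⟩
    · have hne : ¬ IsConj x w := fun e => by
        have := card_cent_of_isConj e
        rw [show Nat.card ↥(Subgroup.centralizer ({x} : Set G)) = 24 * 11 ^ 3 from hS.card_X,
          show Nat.card ↥(Subgroup.centralizer ({w} : Set G)) = 242 from hwc] at this
        norm_num at this
      intro i j hij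
      fin_cases i <;> fin_cases j
      · rfl
      · exact absurd hij hne
      · exact absurd hij.symm hne
      · rfl
  -- the large primes
  have big : ∀ p e k : ℕ, p ∈ bigs → (∀ U : Subgroup G, Nat.card U = p → autCard U = e) → (k - 1) * e < p - 1 →
      HasClasses G (List.replicate k (p, p)) := by
    intro p e k hp he hk
    have hpp := (big_prime hp).1
    haveI := Fact.mk hpp
    obtain ⟨y, hy⟩ := exists_prime_orderOf_dvd_card' (G := G) p (hord' ▸ (big_facts hp).1)
    refine hasClasses_cyclic hy ?_ (he _ (by rw [Nat.card_zpowers, hy])).le (Nat.totient_prime hpp ▸ hk)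
    rw [self_centralising hG hJ hord hp hy, Nat.card_zpowers, hy]
  have b23 := big 23 22 1 (by decide) (fun U hU => (F.twentythree' hU).2) (by norm_num)
  have b29 := big 29 28 1 (by decide) (fun U hU => (F.twentynine hU).2) (by norm_num)
  have b31 := big 31 10 3 (by decide) (fun U hU => (F.thirtyone' hU).2) (by norm_num)
  have b37 := big 37 12 3 (by decide) (fun U hU => (F.thirtyseven hU).2) (by norm_num)
  have b43 := big 43 14 3 (by decide) (fun U hU => (F.fortythree hU).2) (by norm_num)
  exact ((((((((b1.append b3 (by decide)).append b5 (by decide)).append b7 (by decide)).append b11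
    (by decide)).append b23 (by decide)).append b29 (by decide)).append b31 (by decide)).append b37
    (by decide)).append b43 (by decide)

end CfsgLib.JankoFourClasses
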