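import Cfsg.Agent.Lib.JankoFourClasses.FiveLines
import Cfsg.Agent.Lib.JankoFourClasses.Primes

/-!
# The classes of elements whose order is divisible by five (owner: helper25)

Orders 10, 15, 20, 30 and 40, read off the centralizer of `x` inside `C(z)`.
-/

set_option autoImplicit false
set_option linter.unusedSectionVars false

namespace CfsgLib.JankoFour

open Cfsg CfsgLib.ThreeTrans
open CfsgLib.JankoFourHexad
open CfsgLib.JankoFourClasses.FiveLines

variable {G : Type*} [Group G] [Finite G]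

namespace HexBase

namespace EightData

variable {S : Setting G} {B : HexBase S} {x t y : G} (Q : B.EightData x t y) (D : B.FiveData x)
include Q D

theorem outer_split {v h : G} (hv : v ∈ S.centH x) (hv0 : v ∉ S.H0) (hh : h ∈ S.centH x) :
    h ∈ S.cent0 x ∨ ∃ k ∈ S.cent0 x, h = v * k := by
  obtain ⟨hhz, hhx⟩ := S.mem_centH.1 hh
  obtain ⟨hvz, hvx⟩ := S.mem_centH.1 hv
  by_cases h0 : h ∈ S.H0
  · exact Or.inl (S.mem_cent0.2 ⟨h0, hhx⟩)
  · exact Or.inr ⟨v⁻¹ * h, S.mem_cent0.2 ⟨S.hidx _ _ hvz.inv_left hhz (fun c => hv0 (by simpa using inv_mem c)) h0,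
      hvx.inv_left.mul_left hhx⟩, (mul_inv_cancel_left _ _).symm⟩

theorem card_le_inner {K : Subgroup G} (hK : K ≤ S.centH x) {W : Set G}
    (h : ∀ g ∈ K, g ∈ S.cent0 x → ∃ e : ℕ, ∃ w ∈ W, g = x ^ e * w) : Nat.card ↥K ≤ 2 * (5 * W.ncard) := by
  classical
  set M : Subgroup G := K ⊓ S.cent0 x
  have hM : Nat.card ↥M ≤ 5 * W.ncard := by
    rw [← Nat.card_coe_set_eq W, ← Nat.card_fin 5, ← Nat.card_prod]
    have hx5 : x ^ 5 = 1 := D.hx ▸ pow_orderOf_eq_one x
    choose e w hw hd using fun g : ↥M => h g g.2.1 g.2.2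
    refine Nat.card_le_card_of_injective
      (fun g => ((⟨e g % 5, Nat.mod_lt _ (by norm_num)⟩ : Fin 5), (⟨w g, hw g⟩ : ↥W))) fun a b hab => ?_
    simp only [Prod.mk.injEq, Fin.mk.injEq, Subtype.mk.injEq] at hab
    exact Subtype.ext (by rw [hd a, hd b, hab.2, pow_eq_pow_mod (e a) hx5, hab.1, ← pow_eq_pow_mod (e b) hx5])
  have h2 : Nat.card ↥K ≤ 2 * Nat.card ↥M := by
    by_cases hall : K ≤ S.cent0 x
    · rw [show M = K from inf_eq_left.2 hall]; omega
    obtain ⟨k0, hk0, hk00⟩ := SetLike.not_le_iff_exists.1 hall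
    obtain ⟨hk0z, hk0x⟩ := S.mem_centH.1 (hK hk0)
    have hmem : ∀ g : ↥K, (g : G) ∉ S.cent0 x → k0 * g ∈ M := fun g hg => by
      obtain ⟨hgz, hgx⟩ := S.mem_centH.1 (hK g.2)
      exact Subgroup.mem_inf.2 ⟨mul_mem hk0 g.2, S.mem_cent0.2 ⟨S.hidx _ _ hk0z hgz
        (fun c => hk00 (S.mem_cent0.2 ⟨c, hk0x⟩)) (fun c => hg (S.mem_cent0.2 ⟨c, hgx⟩)), hk0x.mul_left hgx⟩⟩
    let f : ↥K → Bool × ↥M := fun g => if hg : (g : G) ∈ S.cent0 x then (true, ⟨g, Subgroup.mem_inf.2 ⟨g.2, hg⟩⟩)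
      else (false, ⟨k0 * g, hmem g hg⟩)
    have hf : Function.Injective f := fun a b e => by
      simp only [f] at e
      split_ifs at e <;> simp only [Prod.mk.injEq, Subtype.mk.injEq, reduceCtorEq, false_and, true_and] at e
      · exact Subtype.ext e
      · exact Subtype.ext (mul_left_cancel e)
    refine (Nat.card_le_card_of_injective f hf).trans (le_of_eq ?_)
    rw [Nat.card_prod, Nat.card_eq_fintype_card, Fintype.card_bool]
  omega

theorem coord_inner {h : G} (hh : h ∈ S.cent0 x) :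
    ∃ e j : ℕ, ∃ k ∈ S.fixX x, h = x ^ e * (B.X.F.p ^ j * k) ∧ j < 3 ∧
      ∀ w ∈ S.fixX x, h * w * h⁻¹ ∈ S.fixX x ∧ coord B t y (h * w * h⁻¹) = rot^[j] (coord B t y w) := by
  obtain ⟨e, r, hr, k, hk, hd⟩ := D.cent0_decomp' hh
  obtain ⟨j, rfl⟩ := B.X.F.P_eq hr
  rw [pow_eq_pow_mod j B.X.F.p_pow] at hd
  refine ⟨e, j % 3, k, hk, hd, Nat.mod_lt _ (by norm_num), fun w hw => ?_⟩
  obtain ⟨c, hc, hkw⟩ : ∃ c ∈ Subgroup.zpowers S.z, k * w * k⁻¹ = c * w := by
    rcases S.hE.conj_eq_or (S.mem_fixX.1 hk).1 (S.mem_fixX.1 hw).1 with r | r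
    · exact ⟨1, one_mem _, by rw [r, one_mul]⟩
    · exact ⟨S.z, Subgroup.mem_zpowers _, r⟩
  have hcX : c ∈ S.fixX x := Subgroup.zpowers_le.2 (D.fixV_le_fixX D.z_fixV) hc
  have hm := D.tp_fixX (mul_mem hcX hw) (j % 3)
  have e1 : h * w * h⁻¹ = B.tp (j % 3) (c * w) := by
    rw [show h * w * h⁻¹ = x ^ e * B.tp (j % 3) (k * w * k⁻¹) * (x ^ e)⁻¹ by rw [hd]; simp only [tp]; group, hkw,
      conj_eq_self ((S.mem_fixX.1 hm).2.symm.pow_left e)]
  refine ⟨e1 ▸ hm, ?_⟩
  rw [e1, Q.coord_tp D (mul_mem hcX hw), Q.coord_mul D hcX hw, Q.coord_zpow D hc]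
  simp [add4]

theorem inner_root {d : Bool} {r : G} (hr : r ∈ S.fixX x) (hrd : coord B t y r ∈ roots d) {h : G}
    (hh : h ∈ S.cent0 x) (hc : Commute h r) : ∃ e : ℕ, ∃ k ∈ S.fixX x, h = x ^ e * k := by
  obtain ⟨e, j, k, hk, hd, hj, hact⟩ := Q.coord_inner D hh
  have h1 := (hact r hr).2
  rw [conj_eq_self hc] at h1
  obtain ⟨-, hr1, hr2, -, -, -⟩ := roots_facts d _ hrd
  interval_cases j
  · exact ⟨e, k, hk, by rw [hd, pow_zero, one_mul]⟩
  · exact absurd h1.symm hr1
  · exact absurd h1.symm hr2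

theorem roots_invariant {d : Bool} {r : G} (hr : r ∈ S.fixX x) (hrd : coord B t y r ∈ roots d) {h : G}
    (hh : h ∈ S.centH x) : coord B t y (h * r * h⁻¹) ∈ roots d := by
  obtain ⟨v, a, b, hv, hv0, -, -, hok, hL⟩ := Q.exists_outer_map D
  have hin : ∀ k ∈ S.cent0 x, k * r * k⁻¹ ∈ S.fixX x ∧ coord B t y (k * r * k⁻¹) ∈ roots d := by
    intro k hk
    obtain ⟨e, j, k', -, -, hj, hact⟩ := Q.coord_inner D hk
    refine ⟨(hact r hr).1, ?_⟩
    rw [(hact r hr).2]
    have h5 := fun w hw => (roots_facts d w hw).2.2.2.2.1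
    interval_cases j
    exacts [hrd, h5 _ hrd, h5 _ (h5 _ hrd)]
  rcases Q.outer_split D hv hv0 hh with h0 | ⟨k, hk, rfl⟩
  · exact (hin h h0).2
  · rw [show v * k * r * (v * k)⁻¹ = v * (k * r * k⁻¹) * v⁻¹ by group, (hL _ (hin k hk).1).2]
    exact outerOK_roots a b hok d _ (hin k hk).2

theorem root_facts {d : Bool} {r : G} (hr : r ∈ S.fixX x) (hrd : coord B t y r ∈ roots d) :
    orderOf r = 4 ∧ Nat.card ↥(Subgroup.centralizer ({x} : Set G) ⊓ Subgroup.centralizer ({r} : Set G)) ≤ 160 := by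
  have hr2 := Q.root_sq D hr hrd
  refine ⟨?_, ?_⟩
  · refine orderOf_eq_prime_pow (p := 2) (n := 1) ?_ ?_
    · rw [pow_one, pow_two, hr2]; exact S.hE.z_ne_one
    · rw [show (2 : ℕ) ^ (1 + 1) = 2 * 2 from rfl, pow_mul, pow_two r, hr2, pow_two, S.hE.mul_self_z]
  set K := Subgroup.centralizer ({x} : Set G) ⊓ Subgroup.centralizer ({r} : Set G)
  have hK : K ≤ S.centH x := fun g hg => by
    have hgr : Commute g r := mem_centralizer_singleton_iff'.1 hg.2
    exact S.mem_centH.2 ⟨hr2 ▸ hgr.mul_right hgr, mem_centralizer_singleton_iff'.1 hg.1⟩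
  set M : Subgroup G := S.fixX x ⊓ Subgroup.centralizer ({r} : Set G)
  refine (Q.card_le_inner D hK (W := (M : Set G)) fun g hg hg0 => ?_).trans ?_
  · have hgr : Commute g r := mem_centralizer_singleton_iff'.1 hg.2
    obtain ⟨e, k, hk, rfl⟩ := Q.inner_root D hr hrd hg0 hgr
    refine ⟨e, k, ⟨hk, mem_centralizer_singleton_iff'.2 ?_⟩, rfl⟩
    have := ((S.mem_fixX.1 hr).2.symm.pow_left e).inv_left.mul_left hgr
    rw [inv_mul_cancel_left] at this
    exact this
  · have hd : Nat.card ↥M ∣ 32 := by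
      rw [← B.card_fixX D.hx D.hxC D.hxN]; exact Subgroup.card_dvd_of_le inf_le_left
    have hne : Nat.card ↥M ≠ 32 := fun e => by
      refine (roots_facts d _ hrd).1 ?_
      have hMX : M = S.fixX x :=
        Subgroup.eq_of_le_of_card_ge inf_le_left (by rw [e, B.card_fixX D.hx D.hxC D.hxN])
      have key : ∀ {w : G}, w ∈ S.fixX x → chi r w = false := fun hw => (Q.chi_false D).2
        (mem_centralizer_singleton_iff'.1 (hMX.symm ▸ hw : _ ∈ M).2 : Commute _ r).symm
      exact Prod.ext (key (Q.t_fix D)) (Prod.ext (key (D.tp_fixX (Q.t_fix D) 1)) (Prod.ext (key Q.hy)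
        (key (D.tp_fixX Q.hy 1))))
    have hle : Nat.card ↥M ≤ 16 := by
      obtain ⟨i, hi, hi'⟩ := (Nat.dvd_prime_pow Nat.prime_two (m := 5)).1 (by norm_num; exact hd)
      rw [hi'] at hne ⊢
      have : i ≤ 4 := by
        rcases Nat.lt_or_ge i 5 with r | r
        · omega
        · exact absurd (by rw [show i = 5 by omega]; norm_num) hne
      exact (Nat.pow_le_pow_right (by norm_num) this).trans (le_of_eq (by norm_num))
    rw [← Nat.card_coe_set_eq]
    change 2 * (5 * Nat.card ↥M) ≤ 160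
    omega

theorem exists_eighth (d : Bool) : ∃ g, g ∈ S.centH x ∧ orderOf g = 8 ∧ g * g ∈ S.fixX x ∧
    coord B t y (g * g) ∈ roots d ∧
    Nat.card ↥(Subgroup.centralizer ({x} : Set G) ⊓ Subgroup.centralizer ({g} : Set G)) ≤ 40 := by
  classical
  obtain ⟨v, a, b, hv, hv0, -, hv2, hok, hL⟩ := Q.exists_outer_map D
  obtain ⟨k, hk⟩ := outerOK_exists a b hok d
  set a0 := rep B t y k with ha0
  have ha0X : a0 ∈ S.fixX x := Q.rep_mem D k
  obtain ⟨hvz, hvx⟩ := S.mem_centH.1 hv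
  have hv2X : v * v ∈ S.fixX x := Subgroup.zpowers_le.2 (D.fixV_le_fixX D.z_fixV) hv2
  set g := v * a0 with hg
  have hgg : g * g = (v * a0 * v⁻¹) * (v * v * a0) := by rw [hg]; group
  obtain ⟨hvaX, hva⟩ := hL a0 ha0X
  have hggX : g * g ∈ S.fixX x := hgg ▸ mul_mem hvaX (mul_mem hv2X ha0X)
  have hggr : coord B t y (g * g) ∈ roots d := by
    rw [hgg, Q.coord_mul D hvaX (mul_mem hv2X ha0X), hva, Q.coord_mul D hv2X ha0X, Q.coord_zpow D hv2, ha0,
      Q.coord_rep D]
    simpa [add4] using hk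
  have hr2 := Q.root_sq D hggX hggr
  have hgz : Commute g S.z := hvz.mul_left (S.hE.commute_z (S.mem_fixX.1 ha0X).1)
  have hgx : Commute g x := hvx.mul_left (S.mem_fixX.1 ha0X).2
  have hgH : g ∈ S.centH x := S.mem_centH.2 ⟨hgz, hgx⟩
  refine ⟨g, hgH, ?_, hggX, hggr, ?_⟩
  · refine orderOf_eq_prime_pow (p := 2) (n := 2) ?_ ?_
    · rw [show (2 : ℕ) ^ 2 = 2 * 2 from rfl, pow_mul, pow_two g, pow_two, hr2]; exact S.hE.z_ne_one
    · rw [show (2 : ℕ) ^ (2 + 1) = 2 * 2 * 2 from rfl, pow_mul, pow_mul, pow_two g, pow_two (g * g), hr2, pow_two,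
        S.hE.mul_self_z]
  -- the action of `g`
  have hLg : ∀ w ∈ S.fixX x, g * w * g⁻¹ ∈ S.fixX x ∧ coord B t y (g * w * g⁻¹) = lmap a b (coord B t y w) := by
    intro w hw
    have e1 : g * w * g⁻¹ = v * (a0 * w * a0⁻¹) * v⁻¹ := by rw [hg]; group
    obtain ⟨h1, h2⟩ := hL _ (mul_mem (mul_mem ha0X hw) (inv_mem ha0X))
    refine ⟨e1 ▸ h1, ?_⟩
    rw [e1, h2, Q.coord_mul D (mul_mem ha0X hw) (inv_mem ha0X), Q.coord_mul D ha0X hw, Q.coord_inv D ha0X]
    congr 1
    simp only [add4]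
    obtain ⟨a1, a2, a3, a4⟩ := coord B t y a0
    cases a1 <;> cases a2 <;> cases a3 <;> cases a4 <;> simp
  -- an element moved by the centre
  obtain ⟨w0, hw0, hw0g⟩ : ∃ w0 ∈ Q.eight D, ¬ Commute (g * g) w0 := by
    have h6 := (roots_facts d _ hggr).2.2.2.2.2
    simp only [coord, Bool.or_eq_true, Q.chi_true D] at h6
    rcases h6 with h | h
    exacts [⟨y, Q.y_eight D, h⟩, ⟨_, Q.tp_y_eight D 1, h⟩]
  set w1 := g * w0 * g⁻¹ with hw1
  have hw1A : w1 ∈ Q.eight D := (Subgroup.mem_normalizer_iff.1 (Q.centH_norm D hgH) w0).1 hw0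
  set w := w0 * w1 with hw
  have hwX : w ∈ S.fixX x := mul_mem (Q.eight_fixX D hw0) (Q.eight_fixX D hw1A)
  have hwg : g * w * g⁻¹ = S.z * w := by
    rw [show g * w * g⁻¹ = w1 * (g * g * w0 * (g * g)⁻¹) by rw [hw, hw1]; group,
      D.conj_K hggX (Q.eight_fixX D hw0) hw0g, ← mul_assoc, ← mul_assoc,
      (S.hE.commute_z (S.mem_fixX.1 (Q.eight_fixX D hw1A)).1).eq, mul_assoc, (Q.eight_comm D hw1A hw0).eq,
      ← mul_assoc]
  set K := Subgroup.centralizer ({x} : Set G) ⊓ Subgroup.centralizer ({g} : Set G)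
  have hK : K ≤ S.centH x := fun h hh => by
    have hc : Commute h g := mem_centralizer_singleton_iff'.1 hh.2
    exact S.mem_centH.2 ⟨hr2 ▸ (hc.mul_right hc).mul_right (hc.mul_right hc),
      mem_centralizer_singleton_iff'.1 hh.1⟩
  set M : Subgroup G := S.fixX x ⊓ Subgroup.centralizer ({g} : Set G)
  refine (Q.card_le_inner D hK (W := (M : Set G)) fun h hh hh0 => ?_).trans ?_
  · have hc : Commute h g := mem_centralizer_singleton_iff'.1 hh.2
    obtain ⟨e, k', hk', rfl⟩ := Q.inner_root D hggX hggr hh0 (hc.mul_right hc)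
    refine ⟨e, k', ⟨hk', mem_centralizer_singleton_iff'.2 ?_⟩, rfl⟩
    have := (hgx.symm.pow_left e).inv_left.mul_left hc
    rw [inv_mul_cancel_left] at this
    exact this
  · set T : Finset V4 := Finset.univ.filter fun k => lmap a b k = k
    have hT : T.card ≤ 4 := (outerOK_fixed a b hok (false, false, false, false)).1
    let φ : Bool × ↥M → {s : G // s ∈ S.fixX x ∧ coord B t y s ∈ T} := fun s =>
      ⟨(if s.1 then w else 1) * (s.2 : G), mul_mem (by cases s.1 <;> simp [one_mem, hwX]) s.2.2.1, by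
        have hm : ∀ c, c ∈ S.fixX x → (g * c * g⁻¹ = c ∨ g * c * g⁻¹ = S.z * c) → coord B t y c ∈ T := by
          intro c hc hcc
          refine Finset.mem_filter.2 ⟨Finset.mem_univ _, ?_⟩
          rw [← (hLg c hc).2]
          rcases hcc with r | r <;> rw [r]
          rw [Q.coord_mul D (D.fixV_le_fixX D.z_fixV) hc, Q.coord_zpow D (Subgroup.mem_zpowers _)]
          simp [add4]
        have hsg : g * (s.2 : G) * g⁻¹ = s.2 :=
          conj_eq_self (show Commute (s.2 : G) g from mem_centralizer_singleton_iff'.1 s.2.2.2).symm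
        refine hm _ (mul_mem (by cases s.1 <;> simp [one_mem, hwX]) s.2.2.1) ?_
        rw [show g * ((if s.1 then w else 1) * (s.2 : G)) * g⁻¹ =
          g * (if s.1 then w else 1) * g⁻¹ * (g * (s.2 : G) * g⁻¹) by group, hsg]
        cases s.1
        · exact Or.inl (by simp)
        · refine Or.inr ?_
          simp only [if_true]
          rw [hwg, mul_assoc]⟩
    have hφ : Function.Injective φ := by
      rintro ⟨c, m⟩ ⟨c', m'⟩ e
      have e' : (if c then w else 1) * (m : G) = (if c' then w else 1) * (m' : G) := congrArg Subtype.val e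
      have hcc : c = c' := by
        have key : ∀ p q : ↥M, w * (p : G) ≠ q := fun p q e => by
          have hwM : Commute g w := by
            have hp : Commute (p : G) g := mem_centralizer_singleton_iff'.1 p.2.2
            have hq : Commute (q : G) g := mem_centralizer_singleton_iff'.1 q.2.2
            have := hq.mul_left hp.inv_left
            rw [← e, mul_inv_cancel_right] at this
            exact this.symm
          rw [conj_eq_self hwM] at hwg
          exact S.hE.z_ne_one (mul_eq_right.1 hwg.symm)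
        cases c <;> cases c' <;> simp at e' ⊢
        exacts [key m' m e'.symm, key m m' e']
      subst hcc
      exact Prod.ext rfl (Subtype.ext (mul_left_cancel e'))
    have h8 : Nat.card {s : G // s ∈ S.fixX x ∧ coord B t y s ∈ T} ≤ Nat.card (↥(Subgroup.zpowers S.z) × ↥T) := by
      choose c hc e using fun s : {s : G // s ∈ S.fixX x ∧ coord B t y s ∈ T} => Q.decomp D s.2.1
      refine Nat.card_le_card_of_injective (fun s => (⟨c s, hc s⟩, ⟨coord B t y s.1, s.2.2⟩)) fun p q hpq => ?_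
      simp only [Prod.mk.injEq, Subtype.mk.injEq] at hpq
      exact Subtype.ext (by rw [e p, e q, hpq.1, hpq.2])
    have h9 := (Nat.card_le_card_of_injective φ hφ).trans h8
    rw [Nat.card_prod, Nat.card_prod, Nat.card_zpowers, S.orderOf_z, Nat.card_eq_fintype_card (α := Bool),
      Fintype.card_bool, Nat.card_eq_fintype_card (α := ↥T), Fintype.card_coe] at h9
    rw [← Nat.card_coe_set_eq]
    change 2 * (5 * Nat.card ↥M) ≤ 40
    omega

theorem card_cent_p [IsSimpleGroup G] :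
    Nat.card ↥(Subgroup.centralizer ({x} : Set G) ⊓ Subgroup.centralizer ({B.X.F.p} : Set G)) ≤ 30 := by
  classical
  set K := Subgroup.centralizer ({x} : Set G) ⊓ Subgroup.centralizer ({B.X.F.p} : Set G)
  have hp3 : B.X.F.p ^ 3 = 1 := B.X.F.p_pow
  have hp1 : B.X.F.p ≠ 1 := fun e => by
    have h := B.X.F.hp3
    rw [e, orderOf_one] at h
    norm_num at h
  have hK : K ≤ S.centH x := fun g hg => S.mem_centH.2 ⟨Frame.commute_z (S := S)
    (B.X.F.centralizer_le D.hG (B.X.F.mem_cent_p.2 (mem_centralizer_singleton_iff'.1 hg.2))),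
    mem_centralizer_singleton_iff'.1 hg.1⟩
  obtain ⟨v, a, b, hv, hv0, hvp, -⟩ := Q.exists_outer_map D
  have hinner : ∀ g ∈ K, g ∈ S.cent0 x := by
    intro g hg
    rcases Q.outer_split D hv hv0 (hK hg) with h | ⟨k, hk, rfl⟩
    · exact h
    exfalso
    have hgp : Commute (v * k) B.X.F.p := mem_centralizer_singleton_iff'.1 hg.2
    obtain ⟨e, r, hr, e0, he0, rfl⟩ := D.cent0_decomp' hk
    obtain ⟨j, rfl⟩ := B.X.F.P_eq hr
    set p := B.X.F.p
    have h1 : x ^ e * (p ^ j * e0) * p * (x ^ e * (p ^ j * e0))⁻¹ = p⁻¹ := by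
      have h3 := conj_eq_self hgp
      calc x ^ e * (p ^ j * e0) * p * (x ^ e * (p ^ j * e0))⁻¹
          = v⁻¹ * (v * (x ^ e * (p ^ j * e0)) * p * (v * (x ^ e * (p ^ j * e0)))⁻¹) * v := by group
        _ = v⁻¹ * (v * p⁻¹ * v⁻¹)* v := by
            rw [h3, show v * p⁻¹ * v⁻¹ = (v * p * v⁻¹)⁻¹ by group, hvp, inv_inv]
        _ = p⁻¹ := by group
    have hxp : Commute (x ^ e * p ^ j) p :=
      (D.px.pow_right e).symm.mul_left ((Commute.refl p).pow_left j)
    have h2 : e0 * p * e0⁻¹ = p⁻¹ := by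
      calc e0 * p * e0⁻¹ = (x ^ e * p ^ j)⁻¹ * (x ^ e * (p ^ j * e0) * p * (x ^ e * (p ^ j * e0))⁻¹) *
            (x ^ e * p ^ j) := by group
        _ = p⁻¹ := by rw [h1, hxp.inv_right.inv_left.eq, inv_mul_cancel_right]
    have hE : e0 * (p * e0⁻¹ * p⁻¹) ∈ S.E := mul_mem (S.mem_fixX.1 he0).1
      (S.hE.conj_mem (Frame.commute_z (S := S) B.X.F.hpC) (inv_mem (S.mem_fixX.1 he0).1))
    rw [show e0 * (p * e0⁻¹ * p⁻¹) = e0 * p * e0⁻¹ * p⁻¹ by group, h2,
      show p⁻¹ * p⁻¹ = p by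
        rw [← mul_inv_rev]; exact inv_eq_of_mul_eq_one_right (by rw [← pow_two, ← pow_succ, hp3])] at hE
    have h3 := Subgroup.orderOf_dvd_natCard _ hE
    rw [B.X.F.hp3, S.hcard] at h3
    norm_num at h3
  set W : Set G := Set.range fun jc : Fin 3 × Bool => B.X.F.p ^ (jc.1 : ℕ) * (if jc.2 then S.z else 1)
  have hW : W.ncard ≤ 6 := by
    rw [← Nat.card_coe_set_eq]
    refine (Finite.card_range_le _).trans (le_of_eq ?_)
    rw [Nat.card_prod, Nat.card_fin, Nat.card_eq_fintype_card, Fintype.card_bool]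
  have hKM : Nat.card ↥K ≤ 5 * W.ncard := by
    rw [← Nat.card_coe_set_eq W, ← Nat.card_fin 5, ← Nat.card_prod]
    have hd : ∀ g : ↥K, ∃ e : ℕ, ∃ w ∈ W, (g : G) = x ^ e * w := by
      intro g
      obtain ⟨e, j, k, hk, hd, hj, -⟩ := Q.coord_inner D (hinner g g.2)
      have hgp : Commute (g : G) B.X.F.p := mem_centralizer_singleton_iff'.1 g.2.2
      have hkp : Commute k B.X.F.p := by
        have h1 : Commute (x ^ e * B.X.F.p ^ j) B.X.F.p :=
          (D.px.pow_right e).symm.mul_left ((Commute.refl _).pow_left j)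
        have := h1.inv_left.mul_left hgp
        rwa [hd, show (x ^ e * B.X.F.p ^ j)⁻¹ * (x ^ e * (B.X.F.p ^ j * k)) = k by group] at this
      refine ⟨e, B.X.F.p ^ j * k, ?_, hd⟩
      rcases S.hE.eq_or (D.fix_p (S.mem_fixX.1 hk).1 (Or.inl (conj_eq_self hkp.symm))) with r | r <;> rw [r]
      exacts [⟨(⟨j, hj⟩, false), rfl⟩, ⟨(⟨j, hj⟩, true), rfl⟩]
    choose e w hw hd using hd
    have hx5 : x ^ 5 = 1 := D.hx ▸ pow_orderOf_eq_one x
    refine Nat.card_le_card_of_injective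
      (fun g => ((⟨e g % 5, Nat.mod_lt _ (by norm_num)⟩ : Fin 5), (⟨w g, hw g⟩ : ↥W))) fun p q hpq => ?_
    simp only [Prod.mk.injEq, Fin.mk.injEq, Subtype.mk.injEq] at hpq
    exact Subtype.ext (by rw [hd p, hd q, hpq.2, pow_eq_pow_mod (e p) hx5, hpq.1, ← pow_eq_pow_mod (e q) hx5])
  omega

end EightData

end HexBase

end CfsgLib.JankoFour

namespace CfsgLib.JankoFourClasses

open Cfsg CfsgLib.JankoFour
open CfsgLib.JankoFour.HexBase (conj_eq_self)
open CfsgLib.ThreeTrans (mem_centralizer_singleton_iff')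
open FiveLines

variable {G : Type*} [Group G] [Finite G]

omit [Finite G] in
theorem hasClasses_pair {n c c' : ℕ} {u u' : G} (hu : orderOf u = n) (hu' : orderOf u' = n)
    (hc : Nat.card ↥(Subgroup.centralizer ({u} : Set G)) ≤ c)
    (hc' : Nat.card ↥(Subgroup.centralizer ({u'} : Set G)) ≤ c') (hne : ¬ IsConj u u') :
    HasClasses G [(n, c), (n, c')] := by
  refine ⟨![u, u'], fun i => ?_, fun i j hij => ?_⟩
  · fin_cases i
    exacts [⟨hu, hc⟩, ⟨hu', hc'⟩]
  · fin_cases i <;> fin_cases j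
    · rfl
    · exact absurd hij hne
    · exact absurd hij.symm hne
    · rfl

variable [IsSimpleGroup G] (hG : ¬ IsMulCommutative G)

include hG in
/-- The classes of elements of order divisible by five and prime to seven and eleven, composite. -/
theorem five_block {z : G} (hz : IsOfJankoFourTypeAt z) :
    HasClasses G [(10, 960), (10, 80), (20, 160), (20, 160), (40, 40), (40, 40), (15, 30), (30, 30)] := by
  classical
  have : Fact (Nat.Prime 5) := ⟨by norm_num⟩
  have hJ' : IsOfJankoFourType G := ⟨z, hz⟩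
  obtain ⟨P, hP⟩ := id hz
  obtain ⟨S, rfl, rfl⟩ := exists_setting hP
  obtain ⟨B⟩ := S.exists_hexBase
  obtain ⟨x, hxC, hx, hxN⟩ := B.exists_in_C_norm (q := 5) rfl
  have D : B.FiveData x := ⟨hx, hxC, hxN, hJ', inferInstance, hG,
    fun t ht ht1 htz => B.centralizer_duad_le hG hJ' ht ht1 htz⟩
  obtain ⟨t, y, Q⟩ := D.exists_eight
  have hz2 : orderOf S.z = 2 := S.orderOf_z
  have hcz : Commute x S.z := D.comm_xz
  have htx : Commute t x := (B.mem_fixV.1 Q.htW).2
  have ht2 : orderOf t = 2 := orderOf_eq_prime (by rw [pow_two, D.t_sq Q.htW Q.ht1 Q.htz]) Q.ht1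
  have hle : ∀ {s : G}, Commute x s → Nat.Coprime 5 (orderOf s) →
      Subgroup.centralizer ({x * s} : Set G) =
        Subgroup.centralizer ({x} : Set G) ⊓ Subgroup.centralizer ({s} : Set G) :=
    fun h hco => cent_prod h (hx.symm ▸ hco)
  have hord : ∀ {s : G} {n : ℕ}, Commute x s → orderOf s = n → Nat.Coprime 5 n → orderOf (x * s) = 5 * n :=
    fun h hs hco => by
      rw [h.orderOf_mul_eq_mul_orderOf_of_coprime (by rw [hx, hs]; exact hco), hx, hs]
  -- order ten
  have b10 : HasClasses G [(10, 960), (10, 80)] := by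
    refine hasClasses_pair (hord hcz hz2 (by norm_num)) (hord htx.symm ht2 (by norm_num)) ?_ ?_ ?_
    · rw [hle hcz (by rw [hz2]; norm_num), inf_comm]
      exact D.centH_card.le
    · rw [hle htx.symm (by rw [ht2]; norm_num), D.card_cent_t Q.htW Q.ht1 Q.htz]
    · intro h
      obtain ⟨g, hg⟩ := isConj_iff.1 h
      exact Q.not_conj D (isConj_iff.2 ⟨g, (conj_parts hcz htx.symm rfl (ht2.trans hz2.symm)
        (by rw [hx, hz2]; norm_num) hg).2⟩)
  -- roots of the central involution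
  set r : Bool → G := fun d => HexBase.EightData.rep B t y (false, true, true, d)
  have hrX : ∀ d, r d ∈ S.fixX x := fun d => Q.rep_mem D _
  have hrd : ∀ d, HexBase.EightData.coord B t y (r d) ∈ roots d := fun d => by
    rw [Q.coord_rep D]; exact List.mem_cons_self
  have hrx : ∀ d, Commute x (r d) := fun d => (S.mem_fixX.1 (hrX d)).2.symm
  have nonconj : ∀ {a b : G}, a ∈ S.fixX x → HexBase.EightData.coord B t y a ∈ roots false → b ∈ S.fixX x →
      HexBase.EightData.coord B t y b ∈ roots true → ∀ g, g * x * g⁻¹ = x → g * a * g⁻¹ = b → False := by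
    intro a b ha had hb hbd g hgx hgab
    have hgz : Commute g S.z := by
      refine mul_inv_eq_iff_eq_mul.1 ?_
      rw [← Q.root_sq D ha had, show g * (a * a) * g⁻¹ = g * a * g⁻¹ * (g * a * g⁻¹) by group, hgab,
        Q.root_sq D hb hbd, Q.root_sq D ha had]
    have h1 := Q.roots_invariant D ha had (S.mem_centH.2 ⟨hgz, mul_inv_eq_iff_eq_mul.1 hgx⟩)
    rw [hgab] at h1
    exact (roots_facts false _ h1).2.2.2.1 hbd
  have b20 : HasClasses G [(20, 160), (20, 160)] := by
    have f0 := Q.root_facts D (hrX false) (hrd false)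
    have f1 := Q.root_facts D (hrX true) (hrd true)
    refine hasClasses_pair (hord (hrx false) f0.1 (by norm_num)) (hord (hrx true) f1.1 (by norm_num)) ?_ ?_ ?_
    · rw [hle (hrx false) (by rw [f0.1]; norm_num)]; exact f0.2
    · rw [hle (hrx true) (by rw [f1.1]; norm_num)]; exact f1.2
    · intro h
      obtain ⟨g, hg⟩ := isConj_iff.1 h
      obtain ⟨h1, h2⟩ := conj_parts (hrx false) (hrx true) rfl (f1.1.trans f0.1.symm)
        (by rw [hx, f0.1]; norm_num) hg
      exact nonconj (hrX false) (hrd false) (hrX true) (hrd true) g h1 h2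
  have b40 : HasClasses G [(40, 40), (40, 40)] := by
    obtain ⟨g0, hg0, ho0, hs0, hr0, hc0⟩ := Q.exists_eighth D false
    obtain ⟨g1, hg1, ho1, hs1, hr1, hc1⟩ := Q.exists_eighth D true
    have h0x : Commute x g0 := (S.mem_centH.1 hg0).2.symm
    have h1x : Commute x g1 := (S.mem_centH.1 hg1).2.symm
    refine hasClasses_pair (hord h0x ho0 (by norm_num)) (hord h1x ho1 (by norm_num)) ?_ ?_ ?_
    · rw [hle h0x (by rw [ho0]; norm_num)]; exact hc0
    · rw [hle h1x (by rw [ho1]; norm_num)]; exact hc1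
    · intro h
      obtain ⟨g, hg⟩ := isConj_iff.1 h
      obtain ⟨h1, h2⟩ := conj_parts h0x h1x rfl (ho1.trans ho0.symm) (by rw [hx, ho0]; norm_num) hg
      exact nonconj hs0 hr0 hs1 hr1 g h1
        (by rw [show g * (g0 * g0) * g⁻¹ = g * g0 * g⁻¹ * (g * g0 * g⁻¹) by group, h2])
  -- orders fifteen and thirty
  have hpx : Commute x B.X.F.p := D.px.symm
  have hpz : Commute B.X.F.p S.z := Frame.commute_z (S := S) B.X.F.hpC
  have hpz6 : orderOf (B.X.F.p * S.z) = 6 := by
    rw [hpz.orderOf_mul_eq_mul_orderOf_of_coprime (by rw [B.X.F.hp3, hz2]; norm_num), B.X.F.hp3, hz2]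
  have b15 : HasClasses G [(15, 30)] := by
    refine hasClasses_one (hord hpx B.X.F.hp3 (by norm_num)) ?_
    rw [hle hpx (by rw [B.X.F.hp3]; norm_num)]
    exact Q.card_cent_p D
  have b30 : HasClasses G [(30, 30)] := by
    refine hasClasses_one (hord (hpx.mul_right hcz) hpz6 (by norm_num)) ((Subgroup.card_le_of_le
      (K := Subgroup.centralizer ({x} : Set G) ⊓ Subgroup.centralizer ({B.X.F.p} : Set G)) ?_).trans
      (Q.card_cent_p D))
    rw [hle (hpx.mul_right hcz) (by rw [hpz6]; norm_num),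
      cent_prod hpz (by rw [B.X.F.hp3, hz2]; norm_num)]
    exact inf_le_inf_left _ inf_le_left
  exact ((((b10.append b20 (by decide)).append b40 (by decide)).append b15 (by decide)).append b30 (by decide))

include hG in
/-- The five part of the table. -/
theorem five_classes (hJ : IsOfJankoFourType G) (_hord : Nat.card G = ord) :
    HasClasses G [(10, 960), (10, 80), (20, 160), (20, 160), (40, 40), (40, 40), (15, 30), (30, 30)] := by
  obtain ⟨z, hz⟩ := hJ
  exact five_block hG hz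

end CfsgLib.JankoFourClasses
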