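import Cfsg.Agent.Lib.JankoFour.M22Facts
import Cfsg.Agent.Lib.ThreeTrans.M24Listing
import Cfsg.Agent.Lib.JankoFourClasses.ThreeData

/-!
Centralisers of the elements of orders two, four and eight of the Mathieu group of degree 22: their orders are
at most 384, 32 and exactly 8 (owner: helper8).
-/

set_option autoImplicit false
set_option maxRecDepth 100000

namespace CfsgLib.JankoFourClasses.Three

open Cfsg CfsgLib.Sporadic CfsgLib.JankoFour
open CfsgLib.JankoFour.M22 (RepM pv)
open CfsgLib.ThreeTrans.M24Cls (canon canon_eq)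
open CfsgLib.ThreeTrans.M24Inv (peq peq_iff)

local notation "M" => CfsgLib.JankoFour.M22.Grp

/-- Strictly increasing. -/
noncomputable def incr (l : List ℕ) : Bool :=
  List.rec (motive := fun _ => ℕ → Bool) (fun _ => true) (fun x _ ih b => Nat.blt b (x + 1) && ih (x + 1)) l 0

theorem incr_nodup {l : List ℕ} (h : incr l = true) : l.Nodup := by
  have key : ∀ (l : List ℕ) (b : ℕ),
      List.rec (motive := fun _ => ℕ → Bool) (fun _ => true) (fun x _ ih b => Nat.blt b (x + 1) && ih (x + 1)) l b
        = true → (∀ y ∈ l, b ≤ y) ∧ l.Nodup := by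
    intro l
    induction l with
    | nil => exact fun b _ => ⟨by simp, List.nodup_nil⟩
    | cons x l ih =>
      intro b hb
      simp only [Bool.and_eq_true, Nat.blt_eq] at hb
      obtain ⟨h1, h2⟩ := ih _ hb.2
      refine ⟨fun y hy => ?_, List.nodup_cons.2 ⟨fun hx => by have := h1 x hx; omega, h2⟩⟩
      rcases List.mem_cons.1 hy with rfl | hy
      · omega
      · have := h1 y hy; omega
  exact (key l 0 h).2

/-- A list of packed numbers of distinct elements bounds the size of a set. -/
theorem le_ncard_of_list {L : List ℕ} (hd : incr (L.map canon) = true) {A : Set M}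
    (hA : ∀ p ∈ L, ∃ g ∈ A, RepM g p) : L.length ≤ A.ncard := by
  classical
  have hn := incr_nodup hd
  rw [← List.length_map (f := canon), ← List.toFinset_card_of_nodup hn, ← Set.ncard_coe_finset]
  refine (Set.ncard_le_ncard (t := (fun g : M => packImage (g : Equiv.Perm GolayPt)) '' A) (fun c hc => ?_)
    (Set.toFinite _)).trans (Set.ncard_image_le (Set.toFinite _))
  rw [Finset.mem_coe, List.mem_toFinset, List.mem_map] at hc
  obtain ⟨p, hp, rfl⟩ := hc
  obtain ⟨g, hg, hr⟩ := hA p hp
  exact ⟨g, hg, (canon_eq hr).symm⟩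

theorem invList_ok : invList.length = 1155 ∧ incr (invList.map canon) = true ∧
    invList.all (fun p => Fusion.in22 p && peq (pmul p p) pone && !peq p pone) = true := by
  decide +kernel

theorem centList_ok : centList.length = 384 ∧ incr (centList.map canon) = true ∧ Fusion.in22 pv = true ∧
    centList.all (fun p => Fusion.in22 p && peq (pmul p pv) (pmul pv p)) = true := by
  decide +kernel

/-- The elements of order four: at most 32 listed elements commute. -/
theorem four_ok : centList.all (fun a => !peq (pmul a a) pv ||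
    Nat.ble (centList.filter fun g => peq (pmul g a) (pmul a g)).length 32) = true := by
  decide +kernel

/-- The elements of order eight: exactly the powers commute. -/
theorem eight_ok : centList.all (fun a => !peq (pmul (pmul a a) (pmul a a)) pv ||
    Nat.ble (centList.filter fun g => peq (pmul g a) (pmul a g)).length 8) = true := by
  decide +kernel

theorem repM_mul_one {g : M} {p : ℕ} (h : RepM g p) : peq p pone = true ↔ g = 1 :=
  (peq_iff h Rep.one).trans ⟨fun e => Subtype.ext e, fun e => congrArg Subtype.val e⟩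

theorem peq_repM {g h : M} {p q : ℕ} (a : RepM g p) (b : RepM h q) : peq p q = true ↔ g = h :=
  (peq_iff a b).trans ⟨fun e => Subtype.ext e, fun e => congrArg Subtype.val e⟩

theorem isConj_of_two {v t : M} (hv : RepM v pv) (ht : orderOf t = 2) : IsConj v t :=
  (CfsgLib.JankoFour.M22.isConj_pv hv ht).symm

theorem card_cent_pv {v : M} (hv : RepM v pv) (hv2 : orderOf v = 2) :
    Nat.card ↥(Subgroup.centralizer ({v} : Set M)) ≤ 384 := by
  classical
  obtain ⟨hl, hd, hall⟩ := invList_ok
  rw [List.all_eq_true] at hall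
  have h1 : invList.length ≤ (ConjClasses.carrier (ConjClasses.mk v)).ncard := by
    refine le_ncard_of_list hd fun p hp => ?_
    have hp' := hall p hp
    simp only [Bool.and_eq_true, Bool.not_eq_true'] at hp'
    obtain ⟨g, hg⟩ := CfsgLib.JankoFour.M22.exists_repM hp'.1.1
    refine ⟨g, ConjClasses.mem_carrier_iff_mk_eq.2 (ConjClasses.mk_eq_mk_iff_isConj.2
      (isConj_of_two hv (orderOf_eq_prime ?_ ?_)).symm), hg⟩
    · rw [pow_two]; exact (repM_mul_one (CfsgLib.JankoFour.M22.repM_mul hg hg)).1 hp'.1.2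
    · intro e
      rw [(repM_mul_one hg).2 e] at hp'
      exact absurd hp'.2 (by simp)
  have hs : MulAction.stabilizer (ConjAct M) v =
      (Subgroup.centralizer ({v} : Set M)).comap (ConjAct.ofConjAct (G := M)).toMonoidHom := by
    ext k
    rw [MulAction.mem_stabilizer_iff, Subgroup.mem_comap, Subgroup.mem_centralizer_singleton_iff,
      ConjAct.smul_def, mul_inv_eq_iff_eq_mul]
    rfl
  have h2 := MulAction.card_orbit_mul_card_stabilizer_eq_card_group (ConjAct M) v
  rw [← Nat.card_eq_fintype_card, ← Nat.card_eq_fintype_card, ← Nat.card_eq_fintype_card,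
    ConjAct.orbit_eq_carrier_conjClasses, hs, Nat.card_coe_set_eq,
    show Nat.card ↥((Subgroup.centralizer ({v} : Set M)).comap (ConjAct.ofConjAct (G := M)).toMonoidHom) =
      Nat.card ↥(Subgroup.centralizer ({v} : Set M)) from
      Nat.card_congr (Equiv.subtypeEquiv (ConjAct.ofConjAct (G := M)).toEquiv fun _ => Iff.rfl),
    Nat.card_congr ConjAct.toConjAct.toEquiv.symm,
    show Nat.card M = 443520 from CfsgLib.Sporadic.card_sporM22] at h2
  have h3 := Nat.mul_le_mul_right (Nat.card ↥(Subgroup.centralizer ({v} : Set M))) h1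
  rw [hl, h2] at h3
  omega

theorem exists_pv : ∃ v : M, RepM v pv ∧ orderOf v = 2 := by
  obtain ⟨g, hg⟩ := CfsgLib.JankoFour.M22.exists_repM centList_ok.2.2.1
  refine ⟨g, hg, orderOf_eq_prime ?_ fun e => ?_⟩
  · rw [pow_two]
    exact (repM_mul_one (CfsgLib.JankoFour.M22.repM_mul hg hg)).1 (by decide +kernel)
  · have := (repM_mul_one hg).2 e
    exact absurd this (by decide +kernel)

theorem cent_listed {v : M} (hv : RepM v pv) (hv2 : orderOf v = 2) {g : M} (hg : Commute g v) :
    ∃ p ∈ centList, RepM g p := by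
  classical
  obtain ⟨hl, hd, -, hall⟩ := centList_ok
  rw [List.all_eq_true] at hall
  by_contra hno
  have h1 : centList.length ≤ ((Subgroup.centralizer ({v} : Set M) : Set M) \ {g}).ncard := by
    refine le_ncard_of_list hd fun p hp => ?_
    have hp' := hall p hp
    rw [Bool.and_eq_true] at hp'
    obtain ⟨h, hh⟩ := CfsgLib.JankoFour.M22.exists_repM hp'.1
    refine ⟨h, ⟨Subgroup.mem_centralizer_singleton_iff.2 ((peq_repM (CfsgLib.JankoFour.M22.repM_mul hh hv)
      (CfsgLib.JankoFour.M22.repM_mul hv hh)).1 hp'.2), fun e => hno ⟨p, hp, (e : h = g) ▸ hh⟩⟩, hh⟩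
  have h2 := card_cent_pv hv hv2
  rw [← SetLike.coe_sort_coe, Nat.card_coe_set_eq] at h2
  have h3 := Set.ncard_diff_singleton_lt_of_mem (Subgroup.mem_centralizer_singleton_iff.2 hg.eq :
    g ∈ (Subgroup.centralizer ({v} : Set M) : Set M)) (Set.toFinite _)
  omega

theorem card_cent_of_conj {a b : M} (h : IsConj a b) :
    Nat.card ↥(Subgroup.centralizer ({a} : Set M)) = Nat.card ↥(Subgroup.centralizer ({b} : Set M)) := by
  obtain ⟨g, hg⟩ := isConj_iff.1 h
  refine Nat.card_congr (Equiv.subtypeEquiv (MulAut.conj g).toEquiv fun c => ?_)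
  show c ∈ _ ↔ g * c * g⁻¹ ∈ _
  rw [Subgroup.mem_centralizer_singleton_iff, Subgroup.mem_centralizer_singleton_iff, ← hg, conj_mul, conj_mul,
    mul_left_inj, mul_right_inj]

theorem two_bound {a : M} (ha : orderOf a = 2) : Nat.card ↥(Subgroup.centralizer ({a} : Set M)) ≤ 384 := by
  obtain ⟨v, hv, hv2⟩ := exists_pv
  rw [← card_cent_of_conj (isConj_of_two hv ha)]
  exact card_cent_pv hv hv2

/-- Transfer of a count in the list. -/
theorem bound_of_list {v : M} (hv : RepM v pv) (hv2 : orderOf v = 2) {a : M} {p : ℕ} (ha : RepM a p)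
    (hav : ∀ g, Commute g a → Commute g v) {n : ℕ}
    (hn : Nat.ble (centList.filter fun g => peq (pmul g p) (pmul p g)).length n = true) :
    Nat.card ↥(Subgroup.centralizer ({a} : Set M)) ≤ n := by
  classical
  have hall := centList_ok.2.2.2
  rw [List.all_eq_true] at hall
  set L := centList.filter fun g => peq (pmul g p) (pmul p g)
  have : ∀ g : ↥(Subgroup.centralizer ({a} : Set M)), ∃ i : Fin L.length, RepM (g : M) L[i] := by
    intro g
    have hc : Commute (g : M) a := Subgroup.mem_centralizer_singleton_iff.1 g.2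
    obtain ⟨q, hq, hr⟩ := cent_listed hv hv2 (hav _ hc)
    have hqL : q ∈ L := List.mem_filter.2 ⟨hq, (peq_repM (CfsgLib.JankoFour.M22.repM_mul hr ha)
      (CfsgLib.JankoFour.M22.repM_mul ha hr)).2 hc.eq⟩
    obtain ⟨i, hi, e⟩ := List.getElem_of_mem hqL
    exact ⟨⟨i, hi⟩, by simpa [e] using hr⟩
  choose f hf using this
  refine le_trans (Nat.card_le_card_of_injective f fun g h e => ?_) (by rw [Nat.card_fin]; exact Nat.le_of_ble_eq_true hn)
  have h2 := hf h
  rw [← e] at h2
  exact Subtype.ext (Subtype.ext (Rep.unique (hf g) h2))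

theorem four_bound {a : M} (ha : orderOf a = 4) : Nat.card ↥(Subgroup.centralizer ({a} : Set M)) ≤ 32 := by
  obtain ⟨v, hv, hv2⟩ := exists_pv
  have h2 : orderOf (a ^ 2) = 2 := by rw [orderOf_pow' _ (by norm_num), ha]; rfl
  obtain ⟨g, hg⟩ := isConj_iff.1 (isConj_of_two hv h2).symm
  rw [card_cent_of_conj (isConj_iff.2 ⟨g, rfl⟩ : IsConj a (g * a * g⁻¹))]
  set b := g * a * g⁻¹
  have hb : b * b = v := by rw [conj_mul, ← pow_two, hg]
  have hbv : Commute b v := hb ▸ (Commute.refl b).mul_right (Commute.refl b)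
  obtain ⟨p, hp, hr⟩ := cent_listed hv hv2 hbv
  have h := List.all_eq_true.1 four_ok p hp
  rw [(peq_repM (CfsgLib.JankoFour.M22.repM_mul hr hr) hv).2 hb, Bool.not_true, Bool.false_or] at h
  exact bound_of_list hv hv2 hr (fun c hc => hb ▸ hc.mul_right hc) h

theorem eight_cent {a : M} (ha : orderOf a = 8) {c : M} (hc : Commute c a) : c ∈ Subgroup.zpowers a := by
  obtain ⟨v, hv, hv2⟩ := exists_pv
  have h2 : orderOf (a ^ 4) = 2 := by rw [orderOf_pow' _ (by norm_num), ha]; rfl
  obtain ⟨g, hg⟩ := isConj_iff.1 (isConj_of_two hv h2).symm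
  have hle : Nat.card ↥(Subgroup.centralizer ({a} : Set M)) ≤ 8 := by
    rw [card_cent_of_conj (isConj_iff.2 ⟨g, rfl⟩ : IsConj a (g * a * g⁻¹))]
    set b := g * a * g⁻¹
    have hb : b * b * (b * b) = v := by rw [← hg, show b * b * (b * b) = b ^ 4 by simp [pow_succ, mul_assoc], conj_pow]
    have hbv : Commute b v := hb ▸ ((Commute.refl b).mul_right (Commute.refl b)).mul_right
      ((Commute.refl b).mul_right (Commute.refl b))
    obtain ⟨p, hp, hr⟩ := cent_listed hv hv2 hbv
    have h := List.all_eq_true.1 eight_ok p hp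
    rw [(peq_repM (CfsgLib.JankoFour.M22.repM_mul (CfsgLib.JankoFour.M22.repM_mul hr hr)
      (CfsgLib.JankoFour.M22.repM_mul hr hr)) hv).2 hb, Bool.not_true, Bool.false_or] at h
    exact bound_of_list hv hv2 hr (fun c hc => hb ▸ ((hc.mul_right hc).mul_right (hc.mul_right hc))) h
  have e : Subgroup.zpowers a = Subgroup.centralizer ({a} : Set M) :=
    Subgroup.eq_of_le_of_card_ge (Subgroup.zpowers_le.2 (Subgroup.mem_centralizer_singleton_iff.2 rfl))
      (by rw [Nat.card_zpowers, ha]; exact hle)
  rw [e]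
  exact Subgroup.mem_centralizer_singleton_iff.2 hc.eq

end CfsgLib.JankoFourClasses.Three
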