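import Cfsg.Agent.Lib.JankoFourClasses.Primes
import Cfsg.Agent.Lib.JankoFourClasses.M22Bounds
import Cfsg.Agent.Lib.JankoFourOrder.Coord.Model
import Cfsg.Agent.Lib.JankoFourTwo.OrderThree
import Cfsg.Agent.Lib.JankoFourHexad.Lifts

/-!
The classes of elements of order 6, 12 and 24 in a group of Janko-four type: representatives in the coordinates
of the normaliser of `V`, bounds from the sixfold cover of the Mathieu group of degree 22 (owner: helper8).
-/

set_option autoImplicit false
set_option maxRecDepth 100000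
set_option maxHeartbeats 800000
set_option linter.unusedSectionVars false

namespace CfsgLib.JankoFourClasses

open Cfsg CfsgLib.Sporadic CfsgLib.JankoFour CfsgLib.JankoFourHexad CfsgLib.JankoFourOrder CfsgLib.JankoFourLocals
open CfsgLib.ThreeTrans.M24Inv (peq peq_iff)
open CfsgLib.ThreeTrans.M24Cls (canon canon_eq)

/-! ### elements in coordinates -/

/-- Equality of coordinates. -/
noncomputable def eqC (x y : ℕ × ℕ) : Bool := Nat.beq x.1 y.1 && peq x.2 y.2

/-- The product of coordinates. -/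
noncomputable def mulC (x y : ℕ × ℕ) : ℕ × ℕ := amul x.1 x.2 y.1 y.2

/-- Commuting coordinates. -/
noncomputable def commC (x y : ℕ × ℕ) : Bool := eqC (mulC x y) (mulC y x)

namespace Three

/-- The element of order three. -/
noncomputable def cY : ℕ × ℕ := (0, pPerm)
/-- The unit. -/
noncomputable def cOne : ℕ × ℕ := (0, pone)
/-- The involution `z`. -/
noncomputable def cZ : ℕ × ℕ := (1, pone)
/-- An involution of the class of `z`. -/
noncomputable def cU : ℕ × ℕ := (129, pone)
/-- An involution of the other class. -/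
noncomputable def cT : ℕ × ℕ := (128, pone)
/-- An element of order four over the second class. -/
noncomputable def cS : ℕ × ℕ := (1921, 237116076252092615386195900911128017)
/-- An element of order eight. -/
noncomputable def cR : ℕ × ℕ := (128, 944434372102858780072637608420282800)
/-- A second element of order three. -/
noncomputable def cY' : ℕ × ℕ := (0, 979017549504734623149439527862534209)
/-- An element of order four in `E`. -/
noncomputable def cE : ℕ × ℕ := (54, wPerm 28)
/-- An element of order four outside `E`. -/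
noncomputable def cS' : ℕ × ℕ := (1828, 961438956620049001677386430328277024)
/-- The element of `E` separating them. -/
noncomputable def cA : ℕ × ℕ := (0, wPerm 1)

theorem reps_ok :
    isAut pone = true ∧ isAut pPerm = true ∧ isAut cS.2 = true ∧ isAut cR.2 = true ∧ isAut cY'.2 = true ∧
    isAut cS'.2 = true ∧ isAut (wPerm 28) = true ∧ isAut (wPerm 1) = true := by decide +kernel

/-- Relations among the representatives. -/
theorem rel_ok :
    eqC (mulC (mulC cY cY) cY) cOne = true ∧ commC cY cU = true ∧ commC cY cT = true ∧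
    eqC (mulC cU cU) cOne = true ∧ eqC (mulC cT cT) cOne = true ∧ eqC cU cOne = false ∧ eqC cT cOne = false ∧
    eqC cU cZ = false ∧ eqC cT cZ = false ∧ commC cY cS = true ∧ eqC (mulC cS cS) cT = true ∧
    commC cY cR = true ∧ eqC (mulC (mulC (mulC cR cR) (mulC cR cR)) (mulC (mulC cR cR) (mulC cR cR))) cOne = true ∧
    eqC (mulC (mulC cR cR) (mulC cR cR)) cOne = false := by
  decide +kernel

theorem rel_ok' :
    eqC (mulC (mulC cY' cY') cY') cOne = true ∧ eqC cY' cOne = false ∧ commC cY' cZ = true ∧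
    commC cY' cE = true ∧ commC cY' cS' = true ∧ eqC (mulC cE cE) cZ = true ∧ eqC (mulC cS' cS') cZ = true ∧
    eqC (mulC cA cS') (mulC cS' cA) = false ∧ eqC (mulC cA cS') (mulC cZ (mulC cS' cA)) = false := by
  decide +kernel

theorem dual_ok : fixedCodes.length = 32 ∧ dualPerms.length = 72 ∧ incr fixedCodes = true ∧
    incr (dualPerms.map canon) = true ∧ fixedCodes.all (fun n => Nat.blt n 2048) = true ∧
    dualPerms.all isAut = true ∧
    fixedCodes.all (fun n => dualPerms.all fun p => commC (n, p) cY && commC (n, p) cT) = true ∧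
    Nat.ble ((fixedCodes.flatMap fun n => dualPerms.map fun p => (n, p)).filter fun x => commC x cS).length 48
      = true := by
  decide +kernel

theorem duad_ok : Nat.testBit dMask 128 = true ∧ Nat.testBit dMask 129 = false := by decide +kernel

end Three

variable {G : Type*} [Group G] [Finite G] {S : Setting G} {B : HexBase S} (M : B.NVModel)

/-- The element with given coordinates. -/
def IsEl (g : G) (x : ℕ × ℕ) : Prop := x.1 < 2048 ∧ ∃ σ : ↥M24, Rep σ.1 x.2 ∧ g = B.vel x.1 * M.k σ

theorem IsEl.exists {n p : ℕ} (hn : n < 2048) (hp : isAut p = true) : ∃ g, IsEl M g (n, p) := by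
  obtain ⟨σ, hσ⟩ := exists_M24_elt hp
  exact ⟨_, hn, σ, hσ, rfl⟩

theorem IsEl.mul {a b : G} {x y : ℕ × ℕ} (ha : IsEl M a x) (hb : IsEl M b y) :
    IsEl M (a * b) (mulC x y) := by
  obtain ⟨hn, σ, hσ, rfl⟩ := ha
  obtain ⟨hm, τ, hτ, rfl⟩ := hb
  obtain ⟨hlt, hc⟩ := M.hact σ x.2 hσ y.1 hm
  refine ⟨Nat.xor_lt_two_pow (n := 11) hn hlt, σ * τ, hσ.mul hτ, ?_⟩
  show _ = B.vel (Nat.xor x.1 (pImg x.2 y.1)) * M.k (σ * τ)
  rw [← B.vel_xor, ← hc, map_mul]
  group

theorem IsEl.eq {a b : G} {x y : ℕ × ℕ} (ha : IsEl M a x) (hb : IsEl M b y) (h : eqC x y = true) : a = b := by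
  obtain ⟨hn, σ, hσ, rfl⟩ := ha
  obtain ⟨hm, τ, hτ, rfl⟩ := hb
  rw [eqC, Bool.and_eq_true, Nat.beq_eq] at h
  rw [h.1, show σ = τ from Subtype.ext ((peq_iff hσ hτ).1 h.2)]

theorem IsEl.ne {a b : G} {x y : ℕ × ℕ} (ha : IsEl M a x) (hb : IsEl M b y) (h : eqC x y = false) : a ≠ b := by
  obtain ⟨hn, σ, hσ, rfl⟩ := ha
  obtain ⟨hm, τ, hτ, rfl⟩ := hb
  intro e
  obtain ⟨e1, rfl⟩ := M.hinj _ _ _ _ hn hm e
  rw [eqC, e1, (peq_iff hσ hτ).2 rfl, Bool.and_true, Nat.beq_refl] at h
  exact Bool.noConfusion h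

theorem IsEl.comm {a b : G} {x y : ℕ × ℕ} (ha : IsEl M a x) (hb : IsEl M b y) (h : commC x y = true) :
    Commute a b := (ha.mul M hb).eq M (hb.mul M ha) h

theorem isEl_vel {n : ℕ} (hn : n < 2048) : IsEl M (B.vel n) (n, pone) :=
  ⟨hn, 1, Rep.one, by rw [map_one, mul_one]⟩

theorem isEl_one : IsEl M (1 : G) Three.cOne := by
  have h := isEl_vel M (n := 0) (by norm_num)
  rwa [B.vel_zero] at h

theorem isEl_z : IsEl M S.z Three.cZ := by
  have h := isEl_vel M (n := 1) (by norm_num)
  rwa [B.vel_one] at h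

theorem isEl_p : IsEl M B.X.F.p Three.cY := by
  obtain ⟨σ, hσ⟩ := exists_M24_elt Three.reps_ok.2.1
  exact ⟨by norm_num [Three.cY], σ, hσ, by rw [M.hp σ hσ]; show _ = B.vel 0 * _; rw [B.vel_zero, one_mul]⟩

theorem isEl_W {n w : ℕ} (hn : n < 2048) (hw : w < 64) (hp : isAut (wPerm w) = true) :
    IsEl M (B.vel n * B.W w) (n, wPerm w) := by
  obtain ⟨σ, hσ⟩ := exists_M24_elt hp
  exact ⟨hn, σ, hσ, by rw [M.hW w hw σ hσ]⟩

/-! ### the sixfold cover -/

section cover

variable (S)

/-- A centraliser in the cover is at most six times that of the image. -/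
theorem card_cent_cover (F : Frame S) {x : G} (hx : x ∈ S.C) {n : ℕ}
    (hn : Nat.card ↥(Subgroup.centralizer ({S.f x} : Set M22.Grp)) ≤ n) :
    Nat.card ↥(S.C ⊓ Subgroup.centralizer ({x} : Set G)) ≤ 6 * n := by
  set D := S.C ⊓ Subgroup.centralizer ({x} : Set G) with hD
  let ψ : ↥D →* M22.Grp := S.toGrp.comp (Subgroup.inclusion inf_le_left)
  have hψ : ψ.range ≤ Subgroup.centralizer ({S.f x} : Set M22.Grp) := by
    rintro _ ⟨⟨d, hd⟩, rfl⟩
    refine Subgroup.mem_centralizer_singleton_iff.2 ?_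
    show S.f d * S.f x = S.f x * S.f d
    rw [← S.f_mul_C hd.1 hx, ← S.f_mul_C hx hd.1, Subgroup.mem_centralizer_singleton_iff.1 hd.2]
  have hk : Nat.card ψ.ker ≤ 6 := by
    rw [← F.center_cyclic.2, ← F.toGrp_ker]
    exact Nat.card_le_card_of_injective
      (fun d : ψ.ker => (⟨Subgroup.inclusion inf_le_left (d : ↥D), d.2⟩ : ↥S.toGrp.ker))
      fun a b e => Subtype.ext (Subgroup.inclusion_injective _ (congrArg Subtype.val e :))
  have h := ψ.ker.card_mul_index
  rw [Subgroup.index_ker] at h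
  rw [← h]
  exact Nat.mul_le_mul hk ((Subgroup.card_le_of_le hψ).trans hn)

theorem f_order_two {x : G} (hx : x ∈ S.C) (h2 : x * x = 1) (h1 : x ≠ 1) (hz : x ≠ S.z) :
    orderOf (S.f x) = 2 := by
  refine orderOf_eq_prime (by rw [pow_two, ← S.f_mul_C hx hx, h2, S.f_one]) fun e => ?_
  rcases S.ker_two hx e (n := 1) (by rw [pow_one, pow_two, h2]) with r | r
  exacts [h1 r, hz r]

theorem f_order_four {x : G} (hx : x ∈ S.C) (h4 : x ^ 4 = 1) (h2 : x * x ≠ 1) : orderOf (S.f x) = 4 := by
  haveI : Fact (Nat.Prime 2) := ⟨Nat.prime_two⟩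
  refine (orderOf_eq_prime_pow (p := 2) (n := 1) ?_ ?_).trans (by norm_num)
  · rw [pow_one, pow_two]; exact fun e => h2 (S.inv_of_four hx h4 e)
  · rw [← S.f_pow (S.C_le_H0 hx)]
    exact (congrArg S.f h4).trans S.f_one

theorem f_order_eight {x : G} (hx : x ∈ S.C) (h8 : x ^ 8 = 1) (h4 : x ^ 4 ≠ 1) : orderOf (S.f x) = 8 := by
  haveI : Fact (Nat.Prime 2) := ⟨Nat.prime_two⟩
  refine (orderOf_eq_prime_pow (p := 2) (n := 2) ?_ ?_).trans (by norm_num)
  · intro e
    refine h4 ?_
    rw [show 4 = 2 * 2 from rfl, pow_mul, pow_two (x ^ 2)]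
    refine S.inv_of_four (pow_mem hx 2) (by rw [← pow_mul]; exact h8) ?_
    rw [← S.f_mul_C (pow_mem hx 2) (pow_mem hx 2), ← pow_add, S.f_pow (S.C_le_H0 hx)]
    exact e
  · rw [← S.f_pow (S.C_le_H0 hx)]
    exact (congrArg S.f h8).trans S.f_one

theorem f_mul_z {x : G} (hx : x ∈ S.C) : S.f (x * S.z) = S.f x := by
  rw [S.f_mul_C hx S.z_mem_C, (S.f_eq_one_iff (S.C_le_H0 S.z_mem_C)).2 (Subgroup.mem_sup_left S.hE.z_mem), mul_one]

end cover

variable [IsSimpleGroup G] (hG : ¬ IsMulCommutative G) (hJ : IsOfJankoFourType G)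

include M hG hJ in
theorem three_classes_of_model :
    HasClasses G [(6, 2661120), (6, 2304), (6, 2304), (12, 192), (12, 192), (12, 48), (24, 48), (24, 48)] := by
  classical
  haveI : Fact (Nat.Prime 3) := ⟨Nat.prime_three⟩
  haveI : Fact (Nat.Prime 2) := ⟨Nat.prime_two⟩
  obtain ⟨-, hD, -⟩ := B.duads_spec hG hJ
  set F := B.X.F
  set y := F.p with hydef
  have hy : orderOf y = 3 := F.hp3
  have elY : IsEl M y Three.cY := isEl_p M
  have elZ := isEl_z M
  have el1 := isEl_one M
  have inC : ∀ {g : G}, Commute g y → g ∈ S.C := fun h => F.centralizer_le hG (F.mem_cent_p.2 h)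
  have hyC : y ∈ S.C := inC (Commute.refl _)
  have hzy : Commute S.z y := ((S.mem_C.1 hyC).1).symm
  have hcy : Subgroup.centralizer ({y} : Set G) ≤ S.C := fun g hg =>
    inC (Subgroup.mem_centralizer_singleton_iff.1 hg)
  obtain ⟨r1, r2, r3, r4, r5, r6, r7, r8, r9, r10, r11, r12, r13, r14⟩ := Three.rel_ok
  obtain ⟨q1, q2, q3, q4, q5, q6, q7, q8, q9⟩ := Three.rel_ok'
  obtain ⟨i1, i2, iS, iR, iY', iS', iE, iA⟩ := Three.reps_ok
  -- the involutions
  have elU : IsEl M (B.vel 129) Three.cU := isEl_vel M (by norm_num)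
  have elT : IsEl M (B.vel 128) Three.cT := isEl_vel M (by norm_num)
  set u := B.vel 129
  set t := B.vel 128
  have hu : Commute y u := elY.comm M elU r2
  have ht : Commute y t := elY.comm M elT r3
  have hu2 : u * u = 1 := (elU.mul M elU).eq M el1 r4
  have ht2 : t * t = 1 := (elT.mul M elT).eq M el1 r5
  have hu1 : u ≠ 1 := elU.ne M el1 r6
  have ht1 : t ≠ 1 := elT.ne M el1 r7
  have huz : u ≠ S.z := elU.ne M elZ r8
  have htz : t ≠ S.z := elT.ne M elZ r9
  have htnc : ¬ IsConj S.z t := ((hD 128 (by norm_num)).1 Three.duad_ok.1).2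
  have huc : IsConj S.z u := by
    by_contra h
    have := (hD 129 (by norm_num)).2 ⟨by norm_num, h⟩
    rw [Three.duad_ok.2] at this
    exact Bool.noConfusion this
  have huC := inC hu.symm
  have htC := inC ht.symm
  -- order four over the second class
  obtain ⟨s, elS⟩ := IsEl.exists M (n := Three.cS.1) (by norm_num [Three.cS]) iS
  have hs : Commute y s := elY.comm M elS r10
  have hss : s * s = t := (elS.mul M elS).eq M elT r11
  -- order eight
  obtain ⟨r, elR⟩ := IsEl.exists M (n := Three.cR.1) (by norm_num [Three.cR]) iR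
  have hr : Commute y r := elY.comm M elR r12
  have elR4 := (elR.mul M elR).mul M (elR.mul M elR)
  have hr8 : r ^ 8 = 1 := by
    rw [← (elR4.mul M elR4).eq M el1 r13]; simp [pow_succ, mul_assoc]
  have hr4 : r ^ 4 ≠ 1 := by
    intro e
    refine elR4.ne M el1 r14 ?_
    rw [← e]; simp [pow_succ, mul_assoc]
  have hrC := inC hr.symm
  -- the second element of order three
  obtain ⟨y', elY'⟩ := IsEl.exists M (n := Three.cY'.1) (by norm_num [Three.cY']) iY'
  have elE : IsEl M (B.vel 54 * B.W 28) Three.cE := isEl_W M (by norm_num) (by norm_num) iE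
  have elA : IsEl M (B.vel 0 * B.W 1) Three.cA := isEl_W M (by norm_num) (by norm_num) iA
  obtain ⟨s', elS'⟩ := IsEl.exists M (n := Three.cS'.1) (by norm_num [Three.cS']) iS'
  set e := B.vel 54 * B.W 28
  set a := B.vel 0 * B.W 1
  have haE : a ∈ S.E := by
    show B.vel 0 * B.W 1 ∈ S.E
    rw [B.vel_zero, one_mul]
    exact B.X.F2_le_E (B.W_mem 1)
  have heE : e ∈ S.E := by
    refine mul_mem ?_ (B.X.F2_le_E (B.W_mem 28))
    rw [show (54 : ℕ) = Nat.shiftLeft 27 1 from rfl, B.vel_U (by norm_num)]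
    exact B.X.F1_le_E (B.U_mem _)
  have hy' : orderOf y' = 3 := by
    refine orderOf_eq_prime ?_ (elY'.ne M el1 q2)
    rw [pow_succ, pow_two]
    exact ((elY'.mul M elY').mul M elY').eq M el1 q1
  have hy'e : Commute y' e := elY'.comm M elE q4
  have hy's : Commute y' s' := elY'.comm M elS' q5
  have hee : e * e = S.z := (elE.mul M elE).eq M elZ q6
  have hs's' : s' * s' = S.z := (elS'.mul M elS').eq M elZ q7
  have hs'E : s' ∉ S.E := by
    intro h
    have n1 : a * s' ≠ s' * a := (elA.mul M elS').ne M (elS'.mul M elA) q8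
    have n2 : a * s' ≠ S.z * (s' * a) := (elA.mul M elS').ne M (elZ.mul M (elS'.mul M elA)) q9
    rcases S.hE.conj_eq_or haE h with k | k
    · exact n1 (mul_inv_eq_iff_eq_mul.1 k)
    · exact n2 (by rw [← mul_assoc]; exact mul_inv_eq_iff_eq_mul.1 k)
  -- orders
  have oz : orderOf S.z = 2 := S.orderOf_z
  have four : ∀ {x w : G}, x * x = w → w * w = 1 → w ≠ 1 → orderOf x = 4 := by
    intro x w h1 h2 h3
    refine (orderOf_eq_prime_pow (p := 2) (n := 1) ?_ ?_).trans (by norm_num)
    · rw [pow_one, pow_two, h1]; exact h3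
    · rw [show 2 ^ (1 + 1) = 2 * 2 from rfl, pow_mul, pow_two x, h1, pow_two, h2]
  have two : ∀ {w : G}, w * w = 1 → w ≠ 1 → orderOf w = 2 := fun h h' => orderOf_eq_prime (by rw [pow_two, h]) h'
  have hzz : S.z * S.z = 1 := S.hE.mul_self_z
  have hz1 : S.z ≠ 1 := S.hE.z_ne_one
  have os : orderOf s = 4 := four hss ht2 ht1
  have oe : orderOf e = 4 := four hee hzz hz1
  have os' : orderOf s' = 4 := four hs's' hzz hz1
  have hrz : Commute r S.z := (S.mem_C.1 hrC).1
  have hrz8 : (r * S.z) ^ 8 = 1 ∧ (r * S.z) ^ 4 ≠ 1 := by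
    have hz2 : ∀ k : ℕ, S.z ^ (2 * k) = 1 := fun k => by rw [pow_mul, pow_two, hzz, one_pow]
    rw [hrz.mul_pow, hrz.mul_pow, hz2 4, hz2 2, mul_one, mul_one]
    exact ⟨hr8, hr4⟩
  have eight : ∀ {x : G}, x ^ 8 = 1 → x ^ 4 ≠ 1 → orderOf x = 8 := fun h8 h4 =>
    (orderOf_eq_prime_pow (p := 2) (n := 2) h4 h8).trans (by norm_num)
  have or8 : orderOf r = 8 := eight hr8 hr4
  have orz : orderOf (r * S.z) = 8 := eight hrz8.1 hrz8.2
  have hyr : Commute y (r * S.z) := hr.mul_right hzy.symm
  -- centralisers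
  have cy : ∀ {x : G}, Commute y x → Nat.Coprime 3 (orderOf x) →
      Nat.card ↥(Subgroup.centralizer ({y * x} : Set G)) ≤
        Nat.card ↥(S.C ⊓ Subgroup.centralizer ({x} : Set G)) := by
    intro x hc hco
    rw [cent_prod hc (by rw [hy]; exact hco)]
    exact Subgroup.card_le_of_le (inf_le_inf_right _ hcy)
  have bU : ∀ {x : G}, x ∈ S.C → x * x = 1 → x ≠ 1 → x ≠ S.z →
      Nat.card ↥(S.C ⊓ Subgroup.centralizer ({x} : Set G)) ≤ 2304 := fun hx h2 h1 hz =>
    (card_cent_cover S F hx (Three.two_bound (f_order_two S hx h2 h1 hz))).trans (by norm_num)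
  have b8 : ∀ {x : G}, x ∈ S.C → x ^ 8 = 1 → x ^ 4 ≠ 1 →
      Nat.card ↥(S.C ⊓ Subgroup.centralizer ({x} : Set G)) ≤ 48 := fun {x} hx h8 h4 => by
    refine (card_cent_cover S F hx (n := 8) ?_).trans (by norm_num)
    have ho := f_order_eight S hx h8 h4
    refine le_trans (Subgroup.card_le_of_le (K := Subgroup.zpowers (S.f x)) fun c hc =>
      Three.eight_cent ho (Subgroup.mem_centralizer_singleton_iff.1 hc)) ?_
    rw [Nat.card_zpowers, ho]
  -- the classes of order twelve with square `z`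
  have b4 : ∀ {x : G}, Commute y' x → x * x = S.z →
      Nat.card ↥(Subgroup.centralizer ({y' * x} : Set G)) ≤ 192 := by
    intro x hc hxx
    obtain ⟨g, hg⟩ := isConj_iff.1 (janko_four_one_class_three hG hJ y' y hy' hy)
    rw [card_cent_of_isConj (isConj_iff.2 ⟨g, rfl⟩ : IsConj (y' * x) (g * (y' * x) * g⁻¹)),
      show g * (y' * x) * g⁻¹ = y * (g * x * g⁻¹) by rw [← hg]; group]
    set x' := g * x * g⁻¹
    have hc' : Commute y x' := hg ▸ hc.map (MulAut.conj g).toMonoidHom
    have ho : orderOf x' = 4 := ((MulAut.conj g).orderOf_eq x).trans (four hxx hzz hz1)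
    refine (cy hc' (by rw [ho]; decide)).trans ?_
    refine (card_cent_cover S F (inC hc'.symm) (n := 32) (Three.four_bound
      (f_order_four S (inC hc'.symm) (ho ▸ pow_orderOf_eq_one x') fun e2 => ?_))).trans (by norm_num)
    have := orderOf_dvd_of_pow_eq_one (show x' ^ 2 = 1 by rw [pow_two, e2])
    rw [ho] at this
    norm_num at this
  -- the class of order twelve with square `t`
  have b48 : Nat.card ↥(Subgroup.centralizer ({y * s} : Set G)) ≤ 48 := by
    obtain ⟨hl1, hl2, hn1, hn2, hlt, haut, hcom, hcnt⟩ := Three.dual_ok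
    rw [List.all_eq_true] at hlt haut hcom
    set L := (Three.fixedCodes.flatMap fun n => Three.dualPerms.map fun p => (n, p)) with hL
    set D := S.C ⊓ Subgroup.centralizer ({t} : Set G) with hDdef
    have hel : ∀ q : Fin Three.fixedCodes.length × Fin Three.dualPerms.length,
        ∃ g : ↥D, IsEl M (g : G) (Three.fixedCodes[q.1], Three.dualPerms[q.2]) := by
      intro q
      have h1 := hlt _ (List.getElem_mem q.1.2)
      rw [Nat.blt_eq] at h1
      obtain ⟨g, hg⟩ := IsEl.exists M h1 (haut _ (List.getElem_mem q.2.2))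
      have h2 := List.all_eq_true.1 (hcom _ (List.getElem_mem q.1.2)) _ (List.getElem_mem q.2.2)
      rw [Bool.and_eq_true] at h2
      exact ⟨⟨g, inC (hg.comm M elY h2.1), Subgroup.mem_centralizer_singleton_iff.2 (hg.comm M elT h2.2).eq⟩, hg⟩
    choose φ hφ using hel
    have hinj : Function.Injective φ := by
      intro q q' h
      obtain ⟨hn, σ, hσ, eq1⟩ := hφ q
      obtain ⟨hm, τ, hτ, eq2⟩ := hφ q'
      obtain ⟨e1, rfl⟩ := M.hinj _ _ _ _ hn hm (eq1.symm.trans ((congrArg Subtype.val h).trans eq2))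
      refine Prod.ext (Fin.ext ((Three.incr_nodup hn1).getElem_inj_iff.1 e1)) (Fin.ext ?_)
      have ec : canon Three.dualPerms[q.2] = canon Three.dualPerms[q'.2] := (canon_eq hσ).trans (canon_eq hτ).symm
      have := (Three.incr_nodup hn2).getElem_inj_iff (hi := by simp) (hj := by simp)
        (i := (q.2 : ℕ)) (j := (q'.2 : ℕ))
      exact this.1 (by simpa using ec)
    have hsurj : Function.Surjective φ := by
      refine ((Nat.bijective_iff_injective_and_card φ).2 ⟨hinj, le_antisymm (Nat.card_le_card_of_injective φ hinj) ?_⟩).2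
      rw [Nat.card_prod, Nat.card_fin, Nat.card_fin, hl1, hl2]
      exact bU htC ht2 ht1 htz
    have hin : ∀ g : ↥(Subgroup.centralizer ({y * s} : Set G)),
        ∃ i : Fin (L.filter fun x => commC x Three.cS).length, IsEl M (g : G) (L.filter fun x => commC x Three.cS)[i] := by
      rintro ⟨g, hg⟩
      rw [cent_prod hs (by rw [hy, os]; decide), Subgroup.mem_inf] at hg
      have hgs : Commute g s := Subgroup.mem_centralizer_singleton_iff.1 hg.2
      obtain ⟨q, hq⟩ := hsurj ⟨g, hcy hg.1,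
        Subgroup.mem_centralizer_singleton_iff.2 (hss ▸ hgs.mul_right hgs).eq⟩
      have hq' : IsEl M g (Three.fixedCodes[q.1], Three.dualPerms[q.2]) := by
        have := hφ q; rw [hq] at this; exact this
      have hmem : (Three.fixedCodes[q.1], Three.dualPerms[q.2]) ∈ L.filter fun x => commC x Three.cS := by
        refine List.mem_filter.2 ⟨List.mem_flatMap.2 ⟨_, List.getElem_mem q.1.2,
          List.mem_map.2 ⟨_, List.getElem_mem q.2.2, rfl⟩⟩, ?_⟩
        cases hc : commC (Three.fixedCodes[q.1], Three.dualPerms[q.2]) Three.cS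
        · exact absurd hgs.eq ((hq'.mul M elS).ne M (elS.mul M hq') hc)
        · rfl
      obtain ⟨i, hi, e⟩ := List.getElem_of_mem hmem
      exact ⟨⟨i, hi⟩, by simpa [e] using hq'⟩
    choose ψ hψ using hin
    refine (Nat.card_le_card_of_injective ψ fun g g' h => ?_).trans
      ((Nat.card_fin _).le.trans (Nat.le_of_ble_eq_true hcnt))
    obtain ⟨hn, σ, hσ, eg⟩ := hψ g
    obtain ⟨hm, τ, hτ, eg'⟩ := hψ g'
    refine Subtype.ext ?_
    rw [eg, eg']
    rw [h] at hσ ⊢
    rw [show σ = τ from Subtype.ext (Rep.unique hσ hτ)]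
  -- the lists
  have c6 : HasClasses G [(6, 2661120), (6, 2304), (6, 2304)] := by
    let w : Fin 3 → G := ![S.z, u, t]
    have hw : ∀ i, Commute y (w i) ∧ orderOf (w i) = 2 := by
      intro i
      fin_cases i
      exacts [⟨hzy.symm, oz⟩, ⟨hu, two hu2 hu1⟩, ⟨ht, two ht2 ht1⟩]
    have hco : ∀ i, Nat.Coprime (orderOf y) (orderOf (w i)) := fun i => by rw [hy, (hw i).2]; decide
    refine ⟨fun i => y * w i, fun i => ?_, fun i j h => ?_⟩
    · refine ⟨?_, ?_⟩
      · rw [(hw i).1.orderOf_mul_eq_mul_orderOf_of_coprime (hco i), hy, (hw i).2]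
        fin_cases i <;> rfl
      · refine (cy (hw i).1 (by rw [(hw i).2]; decide)).trans ?_
        fin_cases i
        · exact (Subgroup.card_le_of_le inf_le_left).trans (F.card_C.le.trans (by norm_num))
        · exact bU huC hu2 hu1 huz
        · exact bU htC ht2 ht1 htz
    · obtain ⟨g, hg⟩ := isConj_iff.1 h
      obtain ⟨h1, h2⟩ := conj_parts (hw i).1 (hw j).1 rfl (by rw [(hw i).2, (hw j).2]) (hco i) hg
      have hgz : g * S.z * g⁻¹ = S.z :=
        mul_inv_eq_iff_eq_mul.2 ((S.mem_C.1 (inC (mul_inv_eq_iff_eq_mul.1 h1))).1).eq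
      have back : ∀ {v : G}, g * v * g⁻¹ = S.z → v = S.z := fun {v} hv => by
        have := hv.trans hgz.symm
        exact mul_left_cancel (mul_right_cancel this)
      have hne : ¬ IsConj u t := fun k => htnc (huc.trans k)
      fin_cases i <;> fin_cases j
      · rfl
      · exact absurd (hgz.symm.trans h2) huz.symm
      · exact absurd (hgz.symm.trans h2) htz.symm
      · exact absurd (back h2) huz
      · rfl
      · exact absurd (isConj_iff.2 ⟨g, h2⟩) hne
      · exact absurd (back h2) htz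
      · exact absurd (isConj_iff.2 ⟨g, h2⟩ : IsConj t u).symm hne
      · rfl
  have c12 : HasClasses G [(12, 192), (12, 192), (12, 48)] := by
    let Y : Fin 3 → G := ![y', y', y]
    let w : Fin 3 → G := ![e, s', s]
    have hY : ∀ i, orderOf (Y i) = 3 := fun i => by fin_cases i <;> assumption
    have hw : ∀ i, Commute (Y i) (w i) ∧ orderOf (w i) = 4 := by
      intro i
      fin_cases i
      exacts [⟨hy'e, oe⟩, ⟨hy's, os'⟩, ⟨hs, os⟩]
    have hco : ∀ i, Nat.Coprime (orderOf (Y i)) (orderOf (w i)) := fun i => by rw [hY, (hw i).2]; decide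
    refine ⟨fun i => Y i * w i, fun i => ?_, fun i j h => ?_⟩
    · refine ⟨?_, ?_⟩
      · rw [(hw i).1.orderOf_mul_eq_mul_orderOf_of_coprime (hco i), hY, (hw i).2]
        fin_cases i <;> rfl
      · fin_cases i
        exacts [b4 hy'e hee, b4 hy's hs's', b48]
    · obtain ⟨g, hg⟩ := isConj_iff.1 h
      obtain ⟨-, h2⟩ := conj_parts (hw i).1 (hw j).1 (by rw [hY, hY]) (by rw [(hw i).2, (hw j).2]) (hco i) hg
      have hsq : g * (w i * w i) * g⁻¹ = w j * w j := by rw [← conj_mul, h2]
      have hne : ∀ {v : G}, g * S.z * g⁻¹ = v → ¬ v = t := fun {v} hv k => htnc (isConj_iff.2 ⟨g, hv.trans k⟩)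
      have hne' : g * t * g⁻¹ ≠ S.z := fun k => htnc (isConj_iff.2 ⟨g, k⟩ : IsConj t S.z).symm
      have hes : g * e * g⁻¹ ≠ s' := by
        intro k
        have h3 : g * S.z * g⁻¹ = S.z := by rw [← hee, ← conj_mul, k, hs's', hee]
        exact hs'E (k ▸ S.hE.conj_mem (mul_inv_eq_iff_eq_mul.1 h3) heE)
      have hse : g * s' * g⁻¹ ≠ e := by
        intro k
        have h3 : g * S.z * g⁻¹ = S.z := by rw [← hs's', ← conj_mul, k, hee, hs's']
        have h4 : g⁻¹ * e * g⁻¹⁻¹ = s' := by rw [← k]; group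
        exact hs'E (h4 ▸ S.hE.conj_mem (show Commute g S.z from mul_inv_eq_iff_eq_mul.1 h3).inv_left heE)
      fin_cases i <;> fin_cases j
      · rfl
      · exact absurd h2 hes
      · exact absurd hss (hne (by rw [← hee]; exact hsq))
      · exact absurd h2 hse
      · rfl
      · exact absurd hss (hne (by rw [← hs's']; exact hsq))
      · exact absurd (by rw [← hss, ← hee]; exact hsq) hne'
      · exact absurd (by rw [← hss, ← hs's']; exact hsq) hne'
      · rfl
  have c24 : HasClasses G [(24, 48), (24, 48)] := by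
    refine ⟨![y * r, y * (r * S.z)], fun i => ?_, ?_⟩
    · fin_cases i
      · refine ⟨?_, (cy hr (by rw [or8]; decide)).trans (b8 hrC hr8 hr4)⟩
        show orderOf (y * r) = 24
        rw [hr.orderOf_mul_eq_mul_orderOf_of_coprime (by rw [hy, or8]; decide), hy, or8]
      · refine ⟨?_, (cy hyr (by rw [orz]; decide)).trans (b8 (mul_mem hrC S.z_mem_C) hrz8.1 hrz8.2)⟩
        show orderOf (y * (r * S.z)) = 24
        rw [hyr.orderOf_mul_eq_mul_orderOf_of_coprime (by rw [hy, orz]; decide), hy, orz]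
    · have hne : ¬ IsConj (y * r) (y * (r * S.z)) := fun h => by
        obtain ⟨g, hg⟩ := isConj_iff.1 h
        obtain ⟨h1, h2⟩ := conj_parts hr hyr rfl (by rw [orz, or8]) (by rw [hy, or8]; decide) hg
        have hgC := inC (mul_inv_eq_iff_eq_mul.1 h1)
        have hf : S.f g * S.f r * (S.f g)⁻¹ = S.f r := by
          rw [← S.f_conj_C hgC hrC, h2, f_mul_z S hrC]
        obtain ⟨k, hk⟩ := Subgroup.mem_zpowers_iff.1
          (Three.eight_cent (f_order_eight S hrC hr8 hr4) (mul_inv_eq_iff_eq_mul.1 hf))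
        have hrk : r ^ k ∈ S.C := zpow_mem hrC k
        have hfk : S.f (r ^ k) = S.f g := by
          rw [← hk]; exact map_zpow S.toGrp ⟨r, hrC⟩ k
        have hc : Commute ((r ^ k)⁻¹ * g) r :=
          S.ker_central (mul_mem (inv_mem hrk) hgC) (by
            rw [S.f_mul_C (inv_mem hrk) hgC, S.f_inv (S.C_le_H0 hrk), hfk, inv_mul_cancel]) hrC
        have hgr : Commute g r := by
          have := ((Commute.refl r).zpow_left k).mul_left hc
          rwa [mul_inv_cancel_left] at this
        rw [hgr.eq, mul_inv_cancel_right] at h2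
        exact hz1 (mul_eq_left.1 h2.symm)
      intro i j h
      fin_cases i <;> fin_cases j
      exacts [rfl, absurd h hne, absurd h.symm hne, rfl]
  exact (c6.append c12 (by decide)).append c24 (by decide)

include hG hJ in
theorem three_classes :
    HasClasses G [(6, 2661120), (6, 2304), (6, 2304), (12, 192), (12, 192), (12, 48), (24, 48), (24, 48)] := by
  obtain ⟨z, P, hP⟩ := id hJ
  obtain ⟨S, rfl, rfl⟩ := exists_setting hP
  obtain ⟨B⟩ := S.exists_hexBase
  obtain ⟨M⟩ := B.exists_nvModel hG hJ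
  exact three_classes_of_model M hG hJ

end CfsgLib.JankoFourClasses
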