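import Cfsg.Agent.Lib.JankoFourClasses.SevenEleven
import Cfsg.Agent.Lib.JankoFourClasses.Three
import Cfsg.Agent.Lib.JankoFourClasses.Five

/-!
The sixty-two classes of a group of Janko-four type, from the order and the classes of 2-elements
(owner: helper8).
-/

set_option autoImplicit false

namespace CfsgLib.JankoFourClasses

open Cfsg

variable {G : Type*} [Group G] [Finite G] [IsSimpleGroup G]

theorem three_five_classes (hG : ¬ IsMulCommutative G) (hJ : IsOfJankoFourType G) (hord : Nat.card G = ord) :
    HasClasses G threeFiveTable :=
  (three_classes hG hJ).append (five_classes hG hJ hord) (by decide)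

theorem sixty_two_of_order (hG : ¬ IsMulCommutative G) (hJ : IsOfJankoFourType G) (hord : Nat.card G = ord)
    (h2 : HasClasses G twoTable) : Nat.card (ConjClasses G) = 62 :=
  sixty_two hord h2 (prime_classes hG hJ hord) (three_five_classes hG hJ hord)
    (seven_eleven_classes hG hJ hord)

end CfsgLib.JankoFourClasses
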