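import Cfsg.Agent.Lib.JankoFourFive.Main

/-!
# The commutation coordinates of the fixed group of an element of order five (owner: helper25)

An element of `C_E(x)` is determined modulo `z` by whether it commutes with `t, p t, y, p y`. In these coordinates
an outer element squaring into `⟨z⟩` is one of three linear maps, all preserving each orbit of roots of `z`.
-/

set_option autoImplicit false
set_option linter.unusedSectionVars false

namespace CfsgLib.JankoFourClasses.FiveLines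

/-- The coordinate space. -/
abbrev V4 := Bool × Bool × Bool × Bool

/-- Sum. -/
def add4 (a b : V4) : V4 := (xor a.1 b.1, xor a.2.1 b.2.1, xor a.2.2.1 b.2.2.1, xor a.2.2.2 b.2.2.2)

/-- Scalar multiple. -/
def sc (b : Bool) (v : V4) : V4 := if b then v else (false, false, false, false)

/-- The symplectic form. -/
def frm (k l : V4) : Bool :=
  xor (xor (k.1 && l.2.2.2) (k.2.1 && l.2.2.1)) (xor (k.2.2.1 && l.2.1) (k.2.2.2 && l.1))

/-- The action of `p`. -/
def rot (k : V4) : V4 := (xor k.1 k.2.1, k.1, xor k.2.2.1 k.2.2.2, k.2.2.1)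

/-- The semilinear map with given images of two basis vectors. -/
def lmap (a b k : V4) : V4 :=
  add4 (sc k.1 (rot (rot a))) (add4 (sc k.2.1 a) (add4 (sc k.2.2.1 (rot (rot b))) (sc k.2.2.2 b)))

/-- The two orbits of roots. -/
def roots (d : Bool) : List V4 :=
  [(false, true, true, d), rot (false, true, true, d), rot (rot (false, true, true, d))]

/-- The conditions on the images of `y` and `t` under an outer element. -/
def outerOK (a b : V4) : Prop :=
  (a.2.2.1 = false ∧ a.2.2.2 = false ∧ (a.1 || a.2.1) = true) ∧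
  frm b a = false ∧ frm b (rot (rot a)) = true ∧
  (∀ c d : Bool, (c || d) = true → lmap a b (false, false, c, d) ≠ (false, false, c, d)) ∧
  lmap a b (lmap a b (false, false, false, true)) = (false, false, false, true)

instance (a b : V4) : Decidable (outerOK a b) := by unfold outerOK; infer_instance

set_option synthInstance.maxSize 1024 in
theorem outerOK_roots : ∀ a b : V4, outerOK a b → ∀ d, ∀ k ∈ roots d, lmap a b k ∈ roots d := by decide +kernel

theorem outerOK_exists : ∀ a b : V4, outerOK a b → ∀ d, ∃ k, add4 (lmap a b k) k ∈ roots d := by decide +kernel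

theorem outerOK_fixed : ∀ a b : V4, outerOK a b → ∀ w : V4,
    (Finset.univ.filter fun k => lmap a b k = k).card ≤ 4 ∧ (lmap a b (rot w) = rot (rot (lmap a b w))) := by
  decide +kernel

theorem roots_facts : ∀ d, ∀ k ∈ roots d, k ≠ (false, false, false, false) ∧ rot k ≠ k ∧ rot (rot k) ≠ k ∧
    k ∉ roots (!d) ∧ rot k ∈ roots d ∧ (k.2.2.1 || k.2.2.2) = true := by
  decide +kernel

end CfsgLib.JankoFourClasses.FiveLines

namespace CfsgLib.JankoFour

open Cfsg CfsgLib.ThreeTrans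
open CfsgLib.JankoFourHexad
open CfsgLib.JankoFourClasses.FiveLines

variable {G : Type*} [Group G] [Finite G]

namespace HexBase

namespace EightData

variable {S : Setting G} {B : HexBase S} {x t y : G} (Q : B.EightData x t y) (D : B.FiveData x)

open _root_.Classical in
/-- Failure to commute. -/
noncomputable def chi (k w : G) : Bool := decide (¬ Commute k w)

/-- The coordinates. -/
noncomputable def coord (B : HexBase S) (t y k : G) : V4 :=
  (chi k t, chi k (B.tp 1 t), chi k y, chi k (B.tp 1 y))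

/-- The standard element with given coordinates. -/
def rep (B : HexBase S) (t y : G) (v : V4) : G :=
  (if v.1 then B.tp 1 y else 1) * (if v.2.1 then y else 1) * (if v.2.2.1 then B.tp 1 t else 1) *
    (if v.2.2.2 then t else 1)

include Q D

theorem t_fix : t ∈ S.fixX x := D.t_fixX Q.htW Q.ht1 Q.htz

theorem chi_false {k w : G} : chi k w = false ↔ Commute k w := by simp [chi]

theorem chi_true {k w : G} : chi k w = true ↔ ¬ Commute k w := by simp [chi]

theorem chi_comm (k w : G) : chi k w = chi w k := by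
  classical
  exact decide_eq_decide.2 (not_congr ⟨fun h => h.symm, fun h => h.symm⟩)

theorem chi_mul {a b w : G} (ha : a ∈ S.fixX x) (hb : b ∈ S.fixX x) (hw : w ∈ S.fixX x) :
    chi (a * b) w = xor (chi a w) (chi b w) := by
  by_cases h1 : Commute a w <;> by_cases h2 : Commute b w
  · simp [chi, h1.mul_left h2, h1, h2]
  · have h : ¬ Commute (a * b) w := fun h => h2 (by
      have := h1.inv_left.mul_left h
      rwa [inv_mul_cancel_left] at this)
    simp [chi, h, h1, h2]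
  · have h : ¬ Commute (a * b) w := fun h => h1 (by
      have := h.mul_left h2.inv_left
      rwa [mul_inv_cancel_right] at this)
    simp [chi, h, h1, h2]
  · have h : Commute (a * b) w := by
      refine mul_inv_eq_iff_eq_mul.1 ?_
      rw [show a * b * w * (a * b)⁻¹ = a * (b * w * b⁻¹) * a⁻¹ by group, D.conj_K hb hw h2,
        show a * (S.z * w) * a⁻¹ = (a * S.z * a⁻¹) * (a * w * a⁻¹) by group,
        conj_eq_self (S.hE.commute_z (S.mem_fixX.1 ha).1), D.conj_K ha hw h1, ← mul_assoc, S.hE.mul_self_z, one_mul]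
    simp [chi, h, h1, h2]

theorem coord_mul {a b : G} (ha : a ∈ S.fixX x) (hb : b ∈ S.fixX x) :
    coord B t y (a * b) = add4 (coord B t y a) (coord B t y b) := by
  simp only [coord, add4, Q.chi_mul D ha hb (Q.t_fix D), Q.chi_mul D ha hb (D.tp_fixX (Q.t_fix D) 1),
    Q.chi_mul D ha hb Q.hy, Q.chi_mul D ha hb (D.tp_fixX Q.hy 1)]

theorem coord_one : coord B t y 1 = (false, false, false, false) := by simp [coord, chi]

theorem coord_zpow {c : G} (hc : c ∈ Subgroup.zpowers S.z) : coord B t y c = (false, false, false, false) := by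
  have key : ∀ {w : G}, w ∈ S.fixX x → chi c w = false := fun hw => (Q.chi_false D).2
    (Frame.commute_z_zpowers (S := S) (S.hE.commute_z (S.mem_fixX.1 hw).1) hc).symm
  simp [coord, key (Q.t_fix D), key (D.tp_fixX (Q.t_fix D) 1), key Q.hy, key (D.tp_fixX Q.hy 1)]

theorem basis_values :
    coord B t y (B.tp 1 y) = (true, false, false, false) ∧ coord B t y y = (false, true, false, false) ∧
      coord B t y (B.tp 1 t) = (false, false, true, false) ∧ coord B t y t = (false, false, false, true) := by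
  obtain ⟨a0, a1⟩ := D.pattern Q.htW Q.ht1 Q.htz Q.hy Q.hy2 Q.hyt Q.hy1 (i := 0) (by norm_num)
  obtain ⟨b0, b1⟩ := D.pattern Q.htW Q.ht1 Q.htz Q.hy Q.hy2 Q.hyt Q.hy1 (i := 1) (by norm_num)
  rw [B.tp_zero] at a0 a1
  have tt := D.t_tp Q.htW Q.ht1 Q.htz
  have yy := Q.commute_tp D
  have n1 : ¬ Commute y (B.tp 1 t) := Q.hy1
  have n2 : ¬ Commute (B.tp 1 y) t := fun h => absurd (b0.1 h) (by norm_num)
  have c1 : Commute y t := Q.hyt
  have c2 : Commute (B.tp 1 y) (B.tp 1 t) := b1.2 rfl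
  refine ⟨?_, ?_, ?_, ?_⟩ <;>
    simp [coord, chi, n1, n2, c1, c2, tt, yy, tt.symm, yy.symm, c1.symm, c2.symm, Commute.refl,
      mt Commute.symm n1, mt Commute.symm n2]

theorem pw_mem {w : G} (hw : w ∈ S.fixX x) (b : Bool) : (if b then w else 1) ∈ S.fixX x := by
  cases b <;> simp [hw, one_mem]

theorem rep_mem (v : V4) : rep B t y v ∈ S.fixX x :=
  mul_mem (mul_mem (mul_mem (Q.pw_mem D (D.tp_fixX Q.hy 1) _) (Q.pw_mem D Q.hy _))
    (Q.pw_mem D (D.tp_fixX (Q.t_fix D) 1) _)) (Q.pw_mem D (Q.t_fix D) _)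

theorem coord_pw {w : G} (b : Bool) : coord B t y (if b then w else 1) = sc b (coord B t y w) := by
  cases b <;> simp [sc, Q.coord_one D]

theorem coord_rep (v : V4) : coord B t y (rep B t y v) = v := by
  obtain ⟨e1, e2, e3, e4⟩ := Q.basis_values D
  have m1 := Q.pw_mem D (D.tp_fixX Q.hy 1) v.1
  have m2 := Q.pw_mem D Q.hy v.2.1
  have m3 := Q.pw_mem D (D.tp_fixX (Q.t_fix D) 1) v.2.2.1
  rw [rep, Q.coord_mul D (mul_mem (mul_mem m1 m2) m3) (Q.pw_mem D (Q.t_fix D) _), Q.coord_mul D (mul_mem m1 m2) m3,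
    Q.coord_mul D m1 m2, Q.coord_pw D, Q.coord_pw D, Q.coord_pw D, Q.coord_pw D, e1, e2, e3, e4]
  obtain ⟨a, b, c, d⟩ := v
  cases a <;> cases b <;> cases c <;> cases d <;> rfl

theorem coord_inv {a : G} (ha : a ∈ S.fixX x) : coord B t y a⁻¹ = coord B t y a := by
  classical
  simp only [coord, chi, Commute.inv_left_iff]

theorem coord_ker {k : G} (hk : k ∈ S.fixX x) (h : coord B t y k = (false, false, false, false)) :
    k ∈ Subgroup.zpowers S.z := by
  simp only [coord, Prod.mk.injEq, Q.chi_false D] at h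
  obtain ⟨h0, h1, h2, h3⟩ := h
  exact Q.fixV_cent D (D.mem_fixV_of_commute Q.htW Q.ht1 Q.htz hk h0 h1) h2 h3

theorem coord_eq {a b : G} (ha : a ∈ S.fixX x) (hb : b ∈ S.fixX x) (h : coord B t y a = coord B t y b) :
    ∃ c ∈ Subgroup.zpowers S.z, a = c * b := by
  refine ⟨a * b⁻¹, Q.coord_ker D (mul_mem ha (inv_mem hb)) ?_, (inv_mul_cancel_right _ _).symm⟩
  rw [Q.coord_mul D ha (inv_mem hb), Q.coord_inv D hb, h]
  simp [add4]

theorem decomp {k : G} (hk : k ∈ S.fixX x) :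
    ∃ c ∈ Subgroup.zpowers S.z, k = c * rep B t y (coord B t y k) :=
  Q.coord_eq D hk (Q.rep_mem D _) (Q.coord_rep D _).symm

theorem chi_eq {k w : G} (hk : k ∈ S.fixX x) (hw : w ∈ S.fixX x) :
    chi k w = frm (coord B t y k) (coord B t y w) := by
  obtain ⟨c, hc, e⟩ := Q.decomp D hk
  have hcX : c ∈ S.fixX x := (Subgroup.zpowers_le.2 (D.fixV_le_fixX D.z_fixV)) hc
  have h0 : chi c w = false := (Q.chi_false D).2
    (Frame.commute_z_zpowers (S := S) (S.hE.commute_z (S.mem_fixX.1 hw).1) hc).symm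
  have h1 : ∀ {a : G} (b : Bool), chi (if b then a else 1) w = (b && chi a w) := fun {a} b => by
    cases b <;> simp [chi]
  set v := coord B t y k with hv
  have m1 := Q.pw_mem D (D.tp_fixX Q.hy 1) v.1
  have m2 := Q.pw_mem D Q.hy v.2.1
  have m3 := Q.pw_mem D (D.tp_fixX (Q.t_fix D) 1) v.2.2.1
  conv_lhs => rw [e]
  rw [Q.chi_mul D hcX (Q.rep_mem D _) hw, h0, rep, Q.chi_mul D (mul_mem (mul_mem m1 m2) m3) (Q.pw_mem D (Q.t_fix D) _) hw,
    Q.chi_mul D (mul_mem m1 m2) m3 hw, Q.chi_mul D m1 m2 hw, h1, h1, h1, h1,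
    Q.chi_comm D (B.tp 1 y), Q.chi_comm D y, Q.chi_comm D (B.tp 1 t), Q.chi_comm D t, Bool.false_xor]
  simp only [frm, coord]
  ac_rfl

/-- An element normalising the fixed group acts linearly. -/
theorem coord_conj {g : G} (hgz : Commute g S.z) (hg : ∀ a ∈ S.fixX x, g * a * g⁻¹ ∈ S.fixX x) {k : G}
    (hk : k ∈ S.fixX x) :
    coord B t y (g * k * g⁻¹) =
      add4 (sc (coord B t y k).1 (coord B t y (g * B.tp 1 y * g⁻¹)))
        (add4 (sc (coord B t y k).2.1 (coord B t y (g * y * g⁻¹)))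
          (add4 (sc (coord B t y k).2.2.1 (coord B t y (g * B.tp 1 t * g⁻¹)))
            (sc (coord B t y k).2.2.2 (coord B t y (g * t * g⁻¹))))) := by
  obtain ⟨c, hc, e⟩ := Q.decomp D hk
  set v := coord B t y k with hv
  have hcX : c ∈ S.fixX x := (Subgroup.zpowers_le.2 (D.fixV_le_fixX D.z_fixV)) hc
  have hgc : g * c * g⁻¹ = c := conj_eq_self (Frame.commute_z_zpowers (S := S) hgz hc)
  have hcj : ∀ {a : G} (b : Bool), g * (if b then a else 1) * g⁻¹ = if b then g * a * g⁻¹ else 1 := fun b => by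
    cases b <;> simp
  have e' : g * k * g⁻¹ = c * ((if v.1 then g * B.tp 1 y * g⁻¹ else 1) * (if v.2.1 then g * y * g⁻¹ else 1) *
      (if v.2.2.1 then g * B.tp 1 t * g⁻¹ else 1) * (if v.2.2.2 then g * t * g⁻¹ else 1)) := by
    rw [e, ← hcj, ← hcj, ← hcj, ← hcj]
    nth_rw 2 [← hgc]
    simp only [rep]; group
  have m1 := Q.pw_mem D (hg _ (D.tp_fixX Q.hy 1)) v.1
  have m2 := Q.pw_mem D (hg _ Q.hy) v.2.1
  have m3 := Q.pw_mem D (hg _ (D.tp_fixX (Q.t_fix D) 1)) v.2.2.1
  have m4 := Q.pw_mem D (hg _ (Q.t_fix D)) v.2.2.2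
  rw [e', Q.coord_mul D hcX (mul_mem (mul_mem (mul_mem m1 m2) m3) m4), Q.coord_zpow D hc,
    Q.coord_mul D (mul_mem (mul_mem m1 m2) m3) m4, Q.coord_mul D (mul_mem m1 m2) m3, Q.coord_mul D m1 m2,
    Q.coord_pw D, Q.coord_pw D, Q.coord_pw D, Q.coord_pw D]
  simp only [add4, Bool.false_xor, Prod.mk.injEq]
  exact ⟨by ac_rfl, by ac_rfl, by ac_rfl, by ac_rfl⟩

theorem coord_p {k : G} (hk : k ∈ S.fixX x) :
    coord B t y (B.X.F.p * k * B.X.F.p⁻¹) = rot (coord B t y k) := by
  obtain ⟨e1, e2, e3, e4⟩ := Q.basis_values D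
  have hp : Commute B.X.F.p S.z := Frame.commute_z (S := S) B.X.F.hpC
  have htp : ∀ i a, B.X.F.p * B.tp i a * B.X.F.p⁻¹ = B.tp (i + 1) a := fun i a => B.tp_succ i a
  have h2 : ∀ {w : G}, w ∈ S.fixX x →
      coord B t y (B.tp 2 w) = add4 (coord B t y w) (coord B t y (B.tp 1 w)) := by
    intro w hw
    have h := Q.coord_zpow D (D.orbit_prod hw)
    rw [Q.coord_mul D (mul_mem hw (D.tp_fixX hw 1)) (D.tp_fixX hw 2), Q.coord_mul D hw (D.tp_fixX hw 1)] at h
    revert h
    generalize coord B t y w = a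
    generalize coord B t y (B.tp 1 w) = b
    generalize coord B t y (B.tp 2 w) = c
    revert a b c
    decide +kernel
  rw [Q.coord_conj D hp (fun a ha => by
    have := D.tp_fixX ha 1
    simpa [tp] using this) hk, htp 1 y, htp 1 t,
    show B.X.F.p * y * B.X.F.p⁻¹ = B.tp 1 y by simp [tp], show B.X.F.p * t * B.X.F.p⁻¹ = B.tp 1 t by simp [tp],
    h2 Q.hy, h2 (Q.t_fix D), e1, e2, e3, e4]
  generalize coord B t y k = v
  revert v
  decide +kernel

theorem coord_tp {k : G} (hk : k ∈ S.fixX x) (j : ℕ) :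
    coord B t y (B.tp j k) = rot^[j] (coord B t y k) := by
  induction j with
  | zero => rw [B.tp_zero]; rfl
  | succ j ih => rw [← B.tp_succ, Q.coord_p D (D.tp_fixX hk j), ih, Function.iterate_succ_apply']

/-- Roots of `z`. -/
theorem root_sq {d : Bool} {k : G} (hk : k ∈ S.fixX x) (h : coord B t y k ∈ roots d) : k * k = S.z := by
  set r0 := rep B t y (false, true, true, d) with hr0
  have hr0X : r0 ∈ S.fixX x := Q.rep_mem D _
  have hr : r0 * r0 = S.z := by
    have hyy : y * y = 1 := Q.hy2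
    have hTT : B.tp 1 t * B.tp 1 t = 1 := by rw [← B.tp_mul, D.t_sq Q.htW Q.ht1 Q.htz]; simp [tp]
    have htt : t * t = 1 := D.t_sq Q.htW Q.ht1 Q.htz
    have hTt : Commute (B.tp 1 t) t := D.t_tp Q.htW Q.ht1 Q.htz
    have hT : B.tp 1 t * y * (B.tp 1 t)⁻¹ = S.z * y :=
      D.conj_K (D.tp_fixX (Q.t_fix D) 1) Q.hy fun h => Q.hy1 h.symm
    have hu : ∀ u : G, u * u = 1 → Commute u (B.tp 1 t) → Commute u y → (y * (B.tp 1 t * u)) * (y * (B.tp 1 t * u)) = S.z := by
      intro u hu hcT hcy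
      have hzy : Commute y S.z := S.hE.commute_z (S.mem_fixX.1 Q.hy).1
      calc y * (B.tp 1 t * u) * (y * (B.tp 1 t * u))
          = y * B.tp 1 t * (u * y) * (B.tp 1 t * u) := by group
        _ = y * (B.tp 1 t * y * (B.tp 1 t)⁻¹) * (B.tp 1 t * (u * B.tp 1 t)) * u := by rw [hcy.eq]; group
        _ = y * S.z * y * (B.tp 1 t * B.tp 1 t) * (u * u) := by rw [hT, hcT.eq]; group
        _ = S.z := by rw [hTT, hu, hzy.eq, mul_one, mul_one, mul_assoc, hyy, mul_one]
    rw [hr0]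
    cases d
    · simpa [rep] using hu 1 (one_mul 1) (Commute.one_left _) (Commute.one_left _)
    · simpa [rep, mul_assoc] using hu t htt hTt.symm Q.hyt.symm
  obtain ⟨j, hj⟩ : ∃ j : ℕ, coord B t y k = rot^[j] (false, true, true, d) := by
    simp only [roots, List.mem_cons, List.not_mem_nil, or_false] at h
    rcases h with h | h | h
    exacts [⟨0, h⟩, ⟨1, h⟩, ⟨2, h⟩]
  obtain ⟨c, hc, e⟩ := Q.coord_eq D hk (D.tp_fixX hr0X j) (by rw [Q.coord_tp D hr0X, hr0, Q.coord_rep D]; exact hj)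
  have hcc : c * c = 1 := by rcases S.hE.eq_or hc with r | r <;> rw [r] <;> simp [S.hE.mul_self_z]
  rw [e, (show Commute (B.tp j r0) c from Frame.commute_z_zpowers (S := S)
    (S.hE.commute_z (S.mem_fixX.1 (D.tp_fixX hr0X j)).1) hc).mul_mul_mul_comm, hcc, one_mul, ← B.tp_mul, hr, B.tp_z]

/-- An outer element squaring into the centre with its linear map. -/
theorem exists_outer_map : ∃ v a b, v ∈ S.centH x ∧ v ∉ S.H0 ∧ v * B.X.F.p * v⁻¹ = B.X.F.p⁻¹ ∧
    v * v ∈ Subgroup.zpowers S.z ∧ outerOK a b ∧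
    ∀ k ∈ S.fixX x, v * k * v⁻¹ ∈ S.fixX x ∧ coord B t y (v * k * v⁻¹) = lmap a b (coord B t y k) := by
  classical
  obtain ⟨n, hn, hn0, hnx⟩ := S.exists_outer_five D.hx D.hxC
  obtain ⟨m, a2, hm0, hm2⟩ := S.exists_two_power hn.1 hn0
  set v := n ^ m with hvdef
  have hvz : Commute v S.z := hn.1.pow_left m
  have hvx : Commute v x := hnx.pow_left m
  have hvH : v ∈ S.centH x := S.mem_centH.2 ⟨hvz, hvx⟩
  have hn2 : ∀ i : ℕ, n ^ (2 * i) ∈ S.H0 := fun i => by
    rw [pow_mul, pow_two]; exact pow_mem (S.sq_mem hn.1) i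
  obtain ⟨i, hmi⟩ : Odd m := by
    rcases Nat.even_or_odd' m with ⟨i, hi | hi⟩
    · exact absurd (show n ^ m ∈ S.H0 by rw [hi]; exact hn2 i) hm0
    · exact ⟨i, hi⟩
  have hnp : n * B.X.F.p * n⁻¹ = B.X.F.p⁻¹ := S.outer_inverts hn hn0 B.X.F.hpP
  have hnn : Commute (n * n) B.X.F.p := by
    refine mul_inv_eq_iff_eq_mul.1 ?_
    rw [show n * n * B.X.F.p * (n * n)⁻¹ = n * (n * B.X.F.p * n⁻¹) * n⁻¹ by group, hnp,
      show n * B.X.F.p⁻¹ * n⁻¹ = (n * B.X.F.p * n⁻¹)⁻¹ by group, hnp, inv_inv]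
  have hvp : v * B.X.F.p * v⁻¹ = B.X.F.p⁻¹ := by
    rw [hvdef, hmi, pow_succ', pow_mul, pow_two,
      show n * (n * n) ^ i * B.X.F.p * (n * (n * n) ^ i)⁻¹ =
        n * ((n * n) ^ i * B.X.F.p * ((n * n) ^ i)⁻¹) * n⁻¹ by group, conj_eq_self (hnn.pow_left i), hnp]
  -- the square
  have hv2 : v * v ∈ Subgroup.zpowers S.z := by
    have hh : v * v ∈ S.cent0 x := S.mem_cent0.2 ⟨S.sq_mem hvz, hvx.mul_left hvx⟩
    have hc : Commute (v * v) B.X.F.p := by
      refine mul_inv_eq_iff_eq_mul.1 ?_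
      rw [show v * v * B.X.F.p * (v * v)⁻¹ = v * (v * B.X.F.p * v⁻¹) * v⁻¹ by group, hvp,
        show v * B.X.F.p⁻¹ * v⁻¹ = (v * B.X.F.p * v⁻¹)⁻¹ by group, hvp, inv_inv]
    obtain ⟨e, r, hr, c, hcX, hd⟩ := D.cent0_decomp' hh
    obtain ⟨j, rfl⟩ := B.X.F.P_eq hr
    have hcp : Commute c B.X.F.p := by
      have h1 : Commute (x ^ e * B.X.F.p ^ j) B.X.F.p := (D.px.pow_right e).symm.mul_left ((Commute.refl _).pow_left j)
      have := h1.inv_left.mul_left hc
      rwa [hd, show (x ^ e * B.X.F.p ^ j)⁻¹ * (x ^ e * (B.X.F.p ^ j * c)) = c by group] at this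
    have hcz := D.fix_p (S.mem_fixX.1 hcX).1 (Or.inl (conj_eq_self hcp.symm))
    have hxr : Commute (x ^ e) (B.X.F.p ^ j) := (D.px.symm.pow_pow e j)
    have hxc : Commute (x ^ e * B.X.F.p ^ j) c :=
      ((S.mem_fixX.1 hcX).2.symm.pow_left e).mul_left (hcp.symm.pow_left j)
    have h15 : (x ^ e * B.X.F.p ^ j) ^ 15 = 1 := by
      rw [hxr.mul_pow, ← pow_mul, ← pow_mul, show e * 15 = 5 * (e * 3) by ring, show j * 15 = 3 * (j * 5) by ring,
        pow_mul, ← D.hx, pow_orderOf_eq_one, one_pow, one_mul, pow_mul, B.X.F.p_pow, one_pow]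
    have hc2 : c ^ 2 = 1 := by rcases S.hE.eq_or hcz with r | r <;> rw [r] <;> simp [pow_two, S.hE.mul_self_z]
    rw [← mul_assoc] at hd
    have hvv : (v * v) ^ 2 ^ a2 = 1 := by
      rw [(Commute.refl v).mul_pow, show v ^ 2 ^ a2 = 1 from hm2, one_mul]
    have h30 : (v * v) ^ 30 = 1 := by
      rw [hd, hxc.mul_pow, show (30 : ℕ) = 15 * 2 from rfl, pow_mul, h15, one_pow, one_mul,
        show 15 * 2 = 2 * 15 from rfl, pow_mul, hc2, one_pow]
    have hg : Nat.gcd (2 ^ a2) 30 ∣ 2 := by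
      rw [show (30 : ℕ) = 2 * 15 from rfl,
        Nat.Coprime.gcd_mul_right_cancel_right 2 (Nat.Coprime.pow_right a2 (by norm_num : Nat.Coprime 15 2))]
      exact Nat.gcd_dvd_right _ _
    have h2 : (v * v) ^ 2 = 1 := by
      obtain ⟨q, hq⟩ := hg
      rw [hq, pow_mul, pow_gcd_eq_one.2 ⟨hvv, h30⟩, one_pow]
    rcases D.z_central hh (by rw [← pow_two]; exact h2) hc with r | r <;> rw [r]
    exacts [one_mem _, Subgroup.mem_zpowers _]
  have hfix : ∀ k ∈ S.fixX x, v * k * v⁻¹ ∈ S.fixX x := fun k hk => S.mem_fixX.2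
    ⟨S.hE.conj_mem hvz (S.mem_fixX.1 hk).1, conj_comm_of (conj_eq_self hvx) (S.mem_fixX.1 hk).2⟩
  set a := coord B t y (v * y * v⁻¹) with ha
  set b := coord B t y (v * t * v⁻¹) with hb
  have hp1 : ∀ w ∈ S.fixX x, coord B t y (v * B.tp 1 w * v⁻¹) = rot (rot (coord B t y (v * w * v⁻¹))) := by
    intro w hw
    have hp2 : B.X.F.p⁻¹ = B.X.F.p ^ 2 := inv_eq_of_mul_eq_one_right (by rw [← pow_succ', B.X.F.p_pow])
    have e : v * B.tp 1 w * v⁻¹ = B.tp 2 (v * w * v⁻¹) := by
      simp only [tp, pow_one]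
      rw [show v * (B.X.F.p * w * B.X.F.p⁻¹) * v⁻¹ =
        (v * B.X.F.p * v⁻¹) * (v * w * v⁻¹) * (v * B.X.F.p * v⁻¹)⁻¹ by group, hvp, hp2]
    rw [e, Q.coord_tp D (hfix w hw)]
    rfl
  have hL : ∀ k ∈ S.fixX x, coord B t y (v * k * v⁻¹) = lmap a b (coord B t y k) := by
    intro k hk
    rw [Q.coord_conj D hvz hfix hk, hp1 y Q.hy, hp1 t (Q.t_fix D)]
    rfl
  obtain ⟨e1, e2, e3, e4⟩ := Q.basis_values D
  have hchi : ∀ k w, chi (v * k * v⁻¹) (v * w * v⁻¹) = chi k w := fun k w =>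
    decide_eq_decide.2 (not_congr LargeData.commute_conj_iff')
  refine ⟨v, a, b, hvH, hm0, hvp, hv2, ⟨?_, ?_, ?_, ?_, ?_⟩, fun k hk => ⟨hfix k hk, hL k hk⟩⟩
  · have hA : v * y * v⁻¹ ∈ Q.eight D :=
      (Subgroup.mem_normalizer_iff.1 (Q.centH_norm D hvH) y).1 (Q.y_eight D)
    refine ⟨(Q.chi_false D).2 (Q.eight_comm D hA (Q.y_eight D)),
      (Q.chi_false D).2 (Q.eight_comm D hA (Q.tp_y_eight D 1)), ?_⟩
    by_contra hne
    simp only [Bool.not_eq_true, Bool.or_eq_false_iff] at hne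
    refine Q.y_notz D ?_
    have hz := Q.coord_ker D (hfix y Q.hy) (Prod.ext hne.1 (Prod.ext hne.2 (Prod.ext
      ((Q.chi_false D).2 (Q.eight_comm D hA (Q.y_eight D)))
      ((Q.chi_false D).2 (Q.eight_comm D hA (Q.tp_y_eight D 1))))))
    have h := conj_eq_self (g := v⁻¹) (y := v * y * v⁻¹)
      (Frame.commute_z_zpowers (S := S) hvz.inv_left hz)
    rw [inv_inv, show v⁻¹ * (v * y * v⁻¹) * v = y by group] at h
    rw [h]; exact hz
  · rw [ha, hb, ← Q.chi_eq D (hfix t (Q.t_fix D)) (hfix y Q.hy), hchi]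
    exact (Q.chi_false D).2 Q.hyt.symm
  · rw [ha, ← hp1 y Q.hy, hb, ← Q.chi_eq D (hfix t (Q.t_fix D)) (hfix _ (D.tp_fixX Q.hy 1)), hchi, Q.chi_comm D]
    exact (congrArg Prod.fst e1)
  · intro c d hcd hfixed
    set u := (if c then B.tp 1 t else 1) * (if d then t else 1) with hu
    have huV : u ∈ B.fixV x := mul_mem (by cases c <;> simp [one_mem, D.tp_fixV Q.htW 1])
      (by cases d <;> simp [one_mem, Q.htW])
    have huX := D.fixV_le_fixX huV
    have hcu : coord B t y u = (false, false, c, d) := by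
      have := Q.coord_rep D (false, false, c, d)
      simpa [rep, hu] using this
    rw [← hcu, ← hL u huX] at hfixed
    obtain ⟨f, hf, e⟩ := Q.coord_eq D (hfix u huX) huX hfixed
    have huz : u ∉ Subgroup.zpowers S.z := fun h => by
      have := Q.coord_zpow D h
      rw [hcu] at this
      cases c <;> cases d <;> simp_all
    rcases S.hE.eq_or hf with r | r <;> rw [r] at e
    · rw [one_mul] at e
      exact huz (Q.outer_not_W D hvH hm0 huV (mul_inv_eq_iff_eq_mul.1 e))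
    · -- correct by an element not commuting with `u`
      obtain ⟨k, hk, hku⟩ : ∃ k ∈ S.fixX x, ¬ Commute k u :=
        D.exists_ncomm huV (fun r => huz (r ▸ one_mem _)) (fun r => huz (r ▸ Subgroup.mem_zpowers _))
      obtain ⟨hkE, hkx⟩ := S.mem_fixX.1 hk
      refine huz (Q.outer_not_W D (w := k * v) (S.mem_centH.2 ⟨(S.hE.commute_z hkE).mul_left hvz,
        hkx.mul_left hvx⟩) (fun h => hm0 (by simpa using mul_mem (inv_mem (S.hEH0 hkE)) h)) huV
        (mul_inv_eq_iff_eq_mul.1 ?_))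
      rw [show k * v * u * (k * v)⁻¹ = k * (v * u * v⁻¹) * k⁻¹ by group, e,
        show k * (S.z * u) * k⁻¹ = (k * S.z * k⁻¹) * (k * u * k⁻¹) by group,
        conj_eq_self (S.hE.commute_z hkE), D.conj_K hk huX hku, ← mul_assoc, S.hE.mul_self_z, one_mul]
  · rw [← e4, ← hL t (Q.t_fix D), ← hL _ (hfix t (Q.t_fix D)),
      show v * (v * t * v⁻¹) * v⁻¹ = v * v * t * (v * v)⁻¹ by group,
      conj_eq_self (Frame.commute_z_zpowers (S := S) (S.hE.commute_z (S.mem_fixX.1 (Q.t_fix D)).1) hv2).symm]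

end EightData

end HexBase

end CfsgLib.JankoFour
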