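import Cfsg.Agent.Lib.JankoFourClasses.Primes
import Cfsg.Agent.Lib.JankoFourEleven.TLocal
import Cfsg.Agent.Lib.JankoFourEleven.ZLocal

/-!
The classes of elements of composite order divisible by seven or eleven in a group of Janko-four type: they are
read off the centralisers `7 × S₅`, `11 × 2⁽¹⁺²⁾.3` and `11 × 2` (owner: helper8).
-/

set_option autoImplicit false
set_option maxRecDepth 8000
set_option maxHeartbeats 800000

namespace CfsgLib.JankoFourClasses

open Cfsg CfsgLib.JankoFour CfsgLib.JankoFourLocals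
open CfsgLib.JankoFour.Eleven (CC mem_CC)

variable {G : Type*} [Group G]

theorem orderOf_prod {a s : G} (h : Commute a s) (hco : Nat.Coprime (orderOf a) (orderOf s)) :
    orderOf (a * s) = orderOf a * orderOf s := h.orderOf_mul_eq_mul_orderOf_of_coprime hco

/-- The six types of nontrivial elements of the symmetric group of degree five with centraliser orders. -/
def sPerm : Fin 6 → Equiv.Perm (Fin 5) :=
  ![Equiv.swap 0 1, Equiv.swap 0 1 * Equiv.swap 2 3, Equiv.swap 0 3 * Equiv.swap 0 2 * Equiv.swap 0 1,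
    Equiv.swap 0 2 * Equiv.swap 0 1, Equiv.swap 0 4 * Equiv.swap 0 3 * Equiv.swap 0 2 * Equiv.swap 0 1,
    Equiv.swap 0 2 * Equiv.swap 0 1 * Equiv.swap 3 4]

/-- Their orders. -/
def sOrd : Fin 6 → ℕ := ![2, 2, 4, 3, 5, 6]

/-- The orders of their centralisers. -/
def sCent : Fin 6 → ℕ := ![12, 8, 4, 6, 5, 6]

theorem sPerm_facts : ∀ i, sPerm i ^ sOrd i = 1 ∧ (∀ j < sOrd i, 0 < j → sPerm i ^ j ≠ 1) ∧
    (Finset.univ.filter fun c => c * sPerm i = sPerm i * c).card = sCent i := by
  decide +kernel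

theorem sPerm_order (i : Fin 6) : orderOf (sPerm i) = sOrd i :=
  (orderOf_eq_iff (by revert i; decide)).2 ⟨(sPerm_facts i).1, (sPerm_facts i).2.1⟩

theorem sPerm_cent (i : Fin 6) : Nat.card ↥(Subgroup.centralizer ({sPerm i} : Set (Equiv.Perm (Fin 5)))) = sCent i := by
  rw [← (sPerm_facts i).2.2]
  exact Nat.subtype_card _ fun c => by
    rw [Subgroup.mem_centralizer_singleton_iff]; simp

/-- The type of the element with the given index. -/
def sHalf (i : Fin 12) : Fin 6 := ⟨(i : ℕ) / 2, by omega⟩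

theorem sPair_inj : ∀ i j, sOrd i = sOrd j → sCent i = sCent j → i = j := by decide

variable [Finite G]

/-- The centralisers of the products in a direct product with a symmetric group of degree five. -/
theorem card_cent_seven {x : G} {I : Subgroup G}
    (hI : IsInternalDirectProduct (Subgroup.zpowers x) I (Subgroup.centralizer ({x} : Set G)))
    (e : ↥I ≃* Equiv.Perm (Fin 5)) (s : ↥I) :
    Nat.card ↥(Subgroup.centralizer ({x} : Set G) ⊓ Subgroup.centralizer ({(s : G)} : Set G)) =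
      orderOf x * Nat.card ↥(Subgroup.centralizer ({e s} : Set (Equiv.Perm (Fin 5)))) := by
  obtain ⟨hx, hIC, hcomm, hdis, hsup⟩ := hI
  let ψ := (Subgroup.zpowers x).subtype.noncommCoprod I.subtype fun a b => hcomm a a.2 b b.2
  have hψ : ∀ q, ψ q = (q.1 : G) * (q.2 : G) := fun q => rfl
  have hinj : Function.Injective ψ := by
    rw [injective_iff_map_eq_one]
    rintro ⟨a, b⟩ h
    rw [hψ] at h
    have hb : (b : G) ∈ Subgroup.zpowers x ⊓ I := ⟨by rw [eq_inv_of_mul_eq_one_right h]; exact (Subgroup.zpowers x).inv_mem a.2, b.2⟩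
    rw [hdis, Subgroup.mem_bot] at hb
    rw [hb, mul_one] at h
    exact Prod.ext (Subtype.ext h) (Subtype.ext hb)
  have hrange : ψ.range = Subgroup.centralizer ({x} : Set G) := by
    exact (MonoidHom.noncommCoprod_range _ _ _).trans
      (by rw [Subgroup.range_subtype, Subgroup.range_subtype, hsup])
  rw [← Nat.card_zpowers x, ← Nat.card_prod]
  symm
  refine Nat.card_congr (Equiv.ofBijective
    (fun q => ⟨ψ (q.1, e.symm q.2), hrange ▸ ⟨_, rfl⟩, ?_⟩) ⟨fun q r h => ?_, ?_⟩)
  · refine Subgroup.mem_centralizer_singleton_iff.2 ?_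
    rw [hψ]
    have h1 : Commute ((q.1 : ↥(Subgroup.zpowers x)) : G) (s : G) := hcomm _ q.1.2 _ s.2
    have h2 : Commute (e.symm (q.2 : Equiv.Perm (Fin 5))) s := by
      have := Commute.map (Subgroup.mem_centralizer_singleton_iff.1 q.2.2 :
        Commute (q.2 : Equiv.Perm (Fin 5)) (e s)) e.symm.toMonoidHom
      simpa using this
    exact (h1.mul_left (congrArg Subtype.val h2.eq :)).eq
  · have := hinj (congrArg Subtype.val h :)
    exact Prod.ext (congrArg Prod.fst this :) (Subtype.ext (e.symm.injective (congrArg Prod.snd this :)))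
  · rintro ⟨g, hg, hgs⟩
    have hg' : g ∈ ψ.range := hrange.symm ▸ hg
    obtain ⟨⟨a, b⟩, rfl⟩ := hg'
    have hb : Commute b s := by
      have h1 : Commute ((a : G) * b) s := Subgroup.mem_centralizer_singleton_iff.1 hgs
      have h2 : Commute ((a : G)⁻¹) s := (show Commute (a : G) s from hcomm _ a.2 _ s.2).inv_left
      have h3 := h2.mul_left h1
      rw [inv_mul_cancel_left] at h3
      exact Subtype.ext h3.eq
    refine ⟨(a, ⟨e b, Subgroup.mem_centralizer_singleton_iff.2 (hb.map e.toMonoidHom).eq⟩), ?_⟩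
    simp

variable [IsSimpleGroup G] (hG : ¬ IsMulCommutative G)

include hG in
theorem seven_classes {z : G} (hz : IsOfJankoFourTypeAt z) :
    HasClasses G [(14, 84), (14, 84), (14, 56), (14, 56), (28, 28), (28, 28), (21, 42), (21, 42), (35, 35),
      (35, 35), (42, 42), (42, 42)] := by
  classical
  haveI : Fact (Nat.Prime 7) := ⟨by norm_num⟩
  obtain ⟨P, hP⟩ := id hz
  obtain ⟨S, rfl, rfl⟩ := exists_setting hP
  haveI : Nonempty (Frame S) := exists_frame S
  obtain ⟨u, hu⟩ := exists_prime_orderOf_dvd_card' (G := ↥(Subgroup.centralizer ({S.z} : Set G))) 7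
    (by rw [CfsgLib.JankoFour.Eleven.card_centralizer_H hG hz]; norm_num)
  set x : G := (u : G)
  have hx : orderOf x = 7 := by rw [Subgroup.orderOf_coe, hu]
  have hxz : Commute x S.z := Subgroup.mem_centralizer_singleton_iff.1 u.2
  obtain ⟨I, hI, ⟨e⟩⟩ := Seven.direct S hx hxz hG hz
  have hcinv : Subgroup.centralizer ({x⁻¹} : Set G) = Subgroup.centralizer ({x} : Set G) := by
    rw [← cent_zpowers_eq, ← cent_zpowers_eq, Subgroup.zpowers_inv]
  let a : Bool → G := fun b => bif b then x⁻¹ else x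
  have ha : ∀ b, orderOf (a b) = 7 ∧
      Subgroup.centralizer ({a b} : Set G) = Subgroup.centralizer ({x} : Set G) := by
    intro b; cases b
    · exact ⟨hx, rfl⟩
    · exact ⟨by simpa [a] using hx, hcinv⟩
  have hne : ¬ IsConj x x⁻¹ := by
    intro h
    obtain ⟨g, hg⟩ := isConj_iff.1 h
    have hgN : g ∈ norm' (Subgroup.zpowers x) := by
      rw [mem_norm_iff, cj, MonoidHom.map_zpowers]
      show Subgroup.zpowers (g * x * g⁻¹) = _
      rw [hg, Subgroup.zpowers_inv]
    have h3 : ((cent (Subgroup.zpowers x)).subgroupOf (norm' (Subgroup.zpowers x))).index = 3 := by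
      have h := card_norm (Subgroup.zpowers x)
      rw [cent_zpowers_eq, show Nat.card ↥(Subgroup.centralizer ({x} : Set G)) = 840 from
        Seven.card_cent S hx hxz hG hz, show Nat.card ↥(norm' (Subgroup.zpowers x)) = 3 * 840 from
        Seven.normalizer_card S hx hxz hG hz] at h
      show autCard (Subgroup.zpowers x) = 3
      omega
    haveI : ((cent (Subgroup.zpowers x)).subgroupOf (norm' (Subgroup.zpowers x))).Normal := by
      rw [← Subgroup.normalizerMonoidHom_ker]; infer_instance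
    have hc := Subgroup.pow_index_mem ((cent (Subgroup.zpowers x)).subgroupOf (norm' (Subgroup.zpowers x)))
      ⟨g, hgN⟩
    rw [h3, Subgroup.mem_subgroupOf, SubmonoidClass.coe_pow] at hc
    have hcx : Commute (g ^ 3) x := commute_of_mem_cent hc (Subgroup.mem_zpowers x)
    have e3 : g ^ 3 * x * (g ^ 3)⁻¹ = x⁻¹ := by
      calc g ^ 3 * x * (g ^ 3)⁻¹ = g * (g * (g * x * g⁻¹) * g⁻¹) * g⁻¹ := by
            simp only [pow_succ, pow_zero, one_mul, mul_inv_rev, mul_assoc]
        _ = g * (g * x⁻¹ * g⁻¹) * g⁻¹ := by rw [hg]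
        _ = x⁻¹ := by rw [← conj_inv, hg, inv_inv, hg]
    rw [hcx.eq, mul_inv_cancel_right] at e3
    have h2 : x ^ 2 = 1 := by rw [pow_two]; exact eq_inv_iff_mul_eq_one.1 e3
    have := orderOf_dvd_of_pow_eq_one h2
    rw [hx] at this
    norm_num at this
  have hainj : ∀ b c, IsConj (a b) (a c) → b = c := by
    intro b c h
    cases b <;> cases c
    exacts [rfl, absurd h hne, absurd h.symm hne, rfl]
  let s : Fin 6 → G := fun i => ((e.symm (sPerm i) : ↥I) : G)
  have hso : ∀ i, orderOf (s i) = sOrd i := fun i => by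
    show orderOf ((e.symm (sPerm i) : ↥I) : G) = _
    rw [Subgroup.orderOf_coe, MulEquiv.orderOf_eq, sPerm_order]
  have hcomm : ∀ b i, Commute (a b) (s i) := fun b i => by
    have h : Commute x (s i) := hI.2.2.1 x (Subgroup.mem_zpowers x) _ (e.symm (sPerm i)).2
    cases b
    exacts [h, h.inv_left]
  have hco : ∀ b i, Nat.Coprime (orderOf (a b)) (orderOf (s i)) := fun b i => by
    rw [(ha b).1, hso]; revert i; decide
  have hC : ∀ b i, Nat.card ↥(Subgroup.centralizer ({a b * s i} : Set G)) = 7 * sCent i := fun b i => by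
    rw [cent_prod (hcomm b i) (hco b i), (ha b).2, card_cent_seven hI e, hx, MulEquiv.apply_symm_apply, sPerm_cent]
  let bb : Fin 12 → Bool := fun i => decide ((i : ℕ) % 2 = 1)
  refine ⟨fun i => a (bb i) * s (sHalf i), fun i => ?_, fun i j h => ?_⟩
  · rw [orderOf_prod (hcomm _ _) (hco _ _), (ha _).1, hso, hC]
    revert i
    decide
  · have h1 : 7 * sOrd (sHalf i) = 7 * sOrd (sHalf j) := by
      have := orderOf_eq_of_isConj h
      rwa [orderOf_prod (hcomm _ _) (hco _ _), orderOf_prod (hcomm _ _) (hco _ _), (ha _).1, (ha _).1, hso,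
        hso] at this
    have h2 : 7 * sCent (sHalf i) = 7 * sCent (sHalf j) := by
      rw [← hC (bb i) (sHalf i), ← hC (bb j) (sHalf j)]; exact card_cent_of_isConj h
    have e1 : sHalf i = sHalf j := sPair_inj _ _ (Nat.eq_of_mul_eq_mul_left (by norm_num) h1)
      (Nat.eq_of_mul_eq_mul_left (by norm_num) h2)
    obtain ⟨g, hg⟩ := isConj_iff.1 h
    have e2 : bb i = bb j := hainj _ _ (isConj_iff.2 ⟨g, (conj_parts (hcomm _ _) (hcomm _ _)
      (by rw [(ha _).1, (ha _).1]) (by rw [e1]) (hco _ _) hg).1⟩)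
    simp only [bb, sHalf, Fin.ext_iff, decide_eq_decide] at e1 e2
    exact Fin.ext (by omega)

include hG in
theorem eleven_classes (hJ : IsOfJankoFourType G) (hord : Nat.card G = ord) :
    HasClasses G [(22, 264), (22, 22), (44, 44), (33, 66), (33, 66), (66, 66), (66, 66)] := by
  classical
  haveI : Fact (Nat.Prime 3) := ⟨Nat.prime_three⟩
  haveI : Fact (Nat.Prime 11) := ⟨by norm_num⟩
  obtain ⟨z, hz⟩ := id hJ
  have h := hyp_eleven hG hJ hord hz
  obtain ⟨x, U, hS⟩ := h.exists_std
  obtain ⟨hD, -, -⟩ := CfsgLib.JankoFour.Eleven.z_data hG hz hS.hx hS.hxz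
  obtain ⟨hK264, hinv, Q, hQK, hQ8, hzQ, hsq, hQn, y, hy, hyK, hyz, hyQ⟩ := hD
  have hzo : orderOf z = 2 := by
    obtain ⟨P, hP⟩ := id hz
    exact hP.1
  have hz1 : z ≠ 1 := fun e => by rw [e, orderOf_one] at hzo; norm_num at hzo
  have hzz : z * z = 1 := by rw [← pow_two, ← hzo, pow_orderOf_eq_one]
  have hyKc := mem_CC.1 hyK
  -- the quotient by the quaternion group
  set K := CC z x with hKdef
  haveI hQnormal : (Q.subgroupOf K).Normal := ⟨fun q hq g => by
    rw [Subgroup.mem_subgroupOf] at hq ⊢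
    exact hQn g (mem_CC.1 g.2).1 (by rw [(mem_CC.1 g.2).2.eq, mul_inv_cancel_right]; exact Subgroup.mem_zpowers x)
      _ hq⟩
  let π : ↥K →* ↥K ⧸ Q.subgroupOf K := QuotientGroup.mk' _
  have h33 : Nat.card (↥K ⧸ Q.subgroupOf K) = 33 := by
    have := (Q.subgroupOf K).card_mul_index
    rw [Nat.card_congr (Subgroup.subgroupOfEquivOfLe hQK).toEquiv, hQ8, hK264] at this
    rw [← Subgroup.index_eq_card]
    omega
  have hpart : ∀ D : Subgroup G, D ≤ K → ∃ m, m ∣ 33 ∧ Nat.card ↥D = Nat.card ↥(D ⊓ Q) * m := by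
    intro D hDK
    let φ := π.comp (Subgroup.inclusion hDK)
    refine ⟨Nat.card φ.range, h33 ▸ Subgroup.card_subgroup_dvd_card _, ?_⟩
    have := φ.ker.card_mul_index
    rw [Subgroup.index_ker] at this
    rw [← this]
    congr 1
    refine Nat.card_congr
      { toFun := fun d => ⟨((d : ↥D) : G), (d : ↥D).2,
          Subgroup.mem_subgroupOf.1 ((QuotientGroup.eq_one_iff (Subgroup.inclusion hDK (d : ↥D))).1 d.2)⟩
        invFun := fun d => ⟨⟨d, d.2.1⟩, (QuotientGroup.eq_one_iff _).2 (Subgroup.mem_subgroupOf.2 d.2.2)⟩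
        left_inv := fun _ => rfl
        right_inv := fun _ => rfl }
  -- a quaternion element and one not commuting with it
  obtain ⟨i, hi, j, hj, hij⟩ := CfsgLib.JankoFour.Eleven.quat_commutator hzz hQ8 hzQ
    (fun a ha => (mem_CC.1 (hQK ha)).1) hsq
  have hnc : ¬ Commute j i := fun e => hz1 (by rw [← hij, ← e.eq]; group)
  have hiz : i ∉ Subgroup.zpowers z := fun e => by
    obtain ⟨k, rfl⟩ := Subgroup.mem_zpowers_iff.1 e
    exact hnc ((mem_CC.1 (hQK hj)).1.zpow_right k)
  have hi2 : i * i = z := hsq i hi hiz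
  have hio : orderOf i = 4 := by
    refine (orderOf_eq_prime_pow (p := 2) (n := 1) ?_ ?_).trans (by norm_num)
    · rw [pow_one, pow_two, hi2]; exact hz1
    · rw [show 2 ^ (1 + 1) = 2 * 2 from rfl, pow_mul, pow_two i, hi2, pow_two, hzz]
  have hix : Commute x i := (mem_CC.1 (hQK hi)).2.symm
  -- bounds
  have b44 : Nat.card ↥(Subgroup.centralizer ({x * i} : Set G)) ≤ 44 := by
    rw [cent_prod hix (by rw [hS.hx, hio]; norm_num)]
    set D := Subgroup.centralizer ({x} : Set G) ⊓ Subgroup.centralizer ({i} : Set G) with hDdef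
    have hDK : D ≤ K := fun g hg => by
      have hgi : Commute g i := Subgroup.mem_centralizer_singleton_iff.1 hg.2
      exact mem_CC.2 ⟨hi2 ▸ hgi.mul_right hgi, Subgroup.mem_centralizer_singleton_iff.1 hg.1⟩
    have hlt : Nat.card ↥(D ⊓ Q) ≤ 4 := by
      have hd : Nat.card ↥(D ⊓ Q) ∣ 2 ^ 3 := (show (8 : ℕ) = 2 ^ 3 from rfl) ▸ hQ8 ▸
        Subgroup.card_dvd_of_le inf_le_right
      obtain ⟨k, hk, hk'⟩ := (Nat.dvd_prime_pow Nat.prime_two).1 hd
      interval_cases k
      all_goals first | (rw [hk']; norm_num; done) | skip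
      exfalso
      have e : D ⊓ Q = Q := Subgroup.eq_of_le_of_card_ge inf_le_right (by rw [hk', hQ8]; norm_num)
      exact hnc (Subgroup.mem_centralizer_singleton_iff.1 ((e.symm ▸ hj : j ∈ D ⊓ Q).1.2))
    obtain ⟨m, hm, hcard⟩ := hpart D hDK
    have h3 : ¬ 3 ∣ Nat.card ↥D := by
      intro h3
      obtain ⟨w, hw⟩ := exists_prime_orderOf_dvd_card' 3 h3
      have hwo : orderOf (w : G) = 3 := by rw [Subgroup.orderOf_coe, hw]
      obtain ⟨c, hc, ec⟩ := conj_in (q := 3) Nat.prime_three (K := K) (P := Subgroup.zpowers y)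
        (P' := Subgroup.zpowers (w : G)) (by rw [hK264]; norm_num) (Subgroup.zpowers_le.2 hyK)
        (Subgroup.zpowers_le.2 (hDK w.2)) (by rw [Nat.card_zpowers, hy]) (by rw [Nat.card_zpowers, hwo])
      have hcz := (mem_CC.1 hc).1
      have hq' : c⁻¹ * i * c ∈ Q := by
        have := hQn c⁻¹ hcz.inv_left
          (by rw [(mem_CC.1 hc).2.inv_left.eq, mul_inv_cancel_right]; exact Subgroup.mem_zpowers x) i hi
        rwa [inv_inv] at this
      have hcom : Commute (c⁻¹ * i * c) y := by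
        have hy' : c * y * c⁻¹ ∈ Subgroup.zpowers (w : G) := by
          rw [← ec, mem_cj, show c⁻¹ * (c * y * c⁻¹) * c = y by group]
          exact Subgroup.mem_zpowers y
        obtain ⟨k, hk⟩ := Subgroup.mem_zpowers_iff.1 hy'
        have h1 : Commute i (c * y * c⁻¹) := hk ▸
          ((show Commute (w : G) i from Subgroup.mem_centralizer_singleton_iff.1 w.2.2).symm.zpow_right k)
        show _ = _
        calc c⁻¹ * i * c * y = c⁻¹ * (i * (c * y * c⁻¹)) * c := by group
          _ = c⁻¹ * (c * y * c⁻¹ * i) * c := by rw [h1.eq]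
          _ = y * (c⁻¹ * i * c) := by group
      obtain ⟨k, hk⟩ := Subgroup.mem_zpowers_iff.1 (hyQ _ hq' hcom)
      refine hiz (Subgroup.mem_zpowers_iff.2 ⟨k, ?_⟩)
      calc z ^ k = c * z ^ k * c⁻¹ := by rw [(hcz.zpow_right k).eq, mul_inv_cancel_right]
        _ = i := by rw [hk]; group
    rw [hcard] at h3 ⊢
    have h11 : m ∣ 11 := by
      have : Nat.Coprime m 3 := (Nat.prime_three.coprime_iff_not_dvd.2 fun e => h3 (e.mul_left _)).symm
      exact this.dvd_of_dvd_mul_left (show m ∣ 3 * 11 from hm)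
    exact (Nat.mul_le_mul hlt (Nat.le_of_dvd (by norm_num) h11)).trans (by norm_num)
  have hD66 : Nat.card ↥(Subgroup.centralizer ({x} : Set G) ⊓ Subgroup.centralizer ({y} : Set G)) ≤ 66 := by
    set D := Subgroup.centralizer ({x} : Set G) ⊓ Subgroup.centralizer ({y} : Set G)
    have hDK : D ≤ K := fun g hg => mem_CC.2 ⟨hyz g (Subgroup.mem_centralizer_singleton_iff.1 hg.2),
      Subgroup.mem_centralizer_singleton_iff.1 hg.1⟩
    obtain ⟨m, hm, hcard⟩ := hpart D hDK
    have hle : Nat.card ↥(D ⊓ Q) ≤ 2 := by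
      refine (Subgroup.card_le_of_le (K := Subgroup.zpowers z) fun a (ha : a ∈ D ⊓ Q) => hyQ a ha.2
        (Subgroup.mem_centralizer_singleton_iff.1 ha.1.2)).trans ?_
      rw [Nat.card_zpowers, hzo]
    rw [hcard]
    exact (Nat.mul_le_mul hle (Nat.le_of_dvd (by norm_num) hm)).trans (by norm_num)
  have hxy : Commute x y := hyKc.2.symm
  have hxyi : Commute x y⁻¹ := hxy.inv_right
  have hyio : orderOf y⁻¹ = 3 := by rw [orderOf_inv, hy]
  have hyz' : Commute y z := hyKc.1
  have ho6 : orderOf (y * z) = 6 ∧ orderOf (y⁻¹ * z) = 6 := by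
    constructor
    · rw [orderOf_prod hyz' (by rw [hy, hzo]; norm_num), hy, hzo]
    · rw [orderOf_prod hyz'.inv_left (by rw [hyio, hzo]; norm_num), hyio, hzo]
  have hcy : Subgroup.centralizer ({y⁻¹} : Set G) = Subgroup.centralizer ({y} : Set G) := by
    rw [← cent_zpowers_eq, ← cent_zpowers_eq, Subgroup.zpowers_inv]
  have hxz : Commute x z := hS.hxz
  have hne : ∀ g : G, g * x * g⁻¹ = x → g * y * g⁻¹ ≠ y⁻¹ := by
    intro g hgx hgy
    have hcy' : Commute (g * z * g⁻¹) y := by
      have h1 : Commute (g * z * g⁻¹) (g * y * g⁻¹) := hyz'.symm.map (MulAut.conj g).toMonoidHom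
      rw [hgy] at h1
      simpa using h1.inv_right
    have hcx' : Commute (g * z * g⁻¹) x := by
      have h1 : Commute (g * z * g⁻¹) (g * x * g⁻¹) := hxz.symm.map (MulAut.conj g).toMonoidHom
      rwa [hgx] at h1
    have hgz : g * z * g⁻¹ = z := hinv _ (hyz _ hcy') hcx' (by rw [conj_mul, hzz]; group)
      (fun e => hz1 (conj_eq_one_iff.1 e))
    have hgK : g ∈ K := mem_CC.2 ⟨mul_inv_eq_iff_eq_mul.1 hgz, mul_inv_eq_iff_eq_mul.1 hgx⟩
    have hb : π ⟨g, hgK⟩ * π ⟨y, hyK⟩ * (π ⟨g, hgK⟩)⁻¹ = (π ⟨y, hyK⟩)⁻¹ := by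
      rw [← map_inv, ← map_inv, ← map_mul, ← map_mul]
      exact congrArg π (Subtype.ext hgy)
    generalize hA : π ⟨g, hgK⟩ = A, hB : π ⟨y, hyK⟩ = B at hb
    have hA33 : A ^ 33 = 1 := h33 ▸ pow_card_eq_one'
    have hAA : Commute (A ^ 2) B := by
      refine mul_inv_eq_iff_eq_mul.1 ?_
      calc A ^ 2 * B * (A ^ 2)⁻¹ = A * (A * B * A⁻¹) * A⁻¹ := by
            simp only [pow_two, mul_inv_rev, mul_assoc]
        _ = A * B⁻¹ * A⁻¹ := by rw [hb]
        _ = B := by rw [← conj_inv, hb, inv_inv]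
    have hAB : Commute A B := by
      have h1 : A = ((A ^ 2) ^ 16)⁻¹ := by
        rw [← pow_mul]
        exact eq_inv_of_mul_eq_one_right (by rw [← pow_succ]; exact hA33)
      exact h1 ▸ (hAA.pow_left 16).inv_left
    rw [hAB.eq, mul_inv_cancel_right] at hb
    have hB2 : B ^ 2 = 1 := by rw [pow_two]; exact eq_inv_iff_mul_eq_one.1 hb
    have hB3 : B ^ 3 = 1 := by
      rw [← hB, ← map_pow, show (⟨y, hyK⟩ : ↥K) ^ 3 = 1 from
        Subtype.ext (by rw [SubmonoidClass.coe_pow, ← hy, pow_orderOf_eq_one]; rfl), map_one]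
    have hB1 : B = 1 := by
      calc B = B ^ 3 * (B ^ 2)⁻¹ := by group
        _ = 1 := by rw [hB2, hB3, inv_one, mul_one]
    rw [← hB] at hB1
    have hyQ' : y ∈ Q := Subgroup.mem_subgroupOf.1 ((QuotientGroup.eq_one_iff _).1 hB1)
    have := orderOf_dvd_natCard (⟨y, hyQ'⟩ : ↥Q)
    rw [Subgroup.orderOf_mk, hy, hQ8] at this
    norm_num at this
  -- the second kind
  obtain ⟨t, ht, htnc, -⟩ := CfsgLib.JankoFourBridge.exists_second_class hG hz
  obtain ⟨w0, hw0⟩ := exists_prime_orderOf_dvd_card' (G := ↥(Subgroup.centralizer ({t} : Set G))) 11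
    (by rw [CfsgLib.JankoFour.Eleven.second_facts hG hz ht htnc]; norm_num)
  set w : G := (w0 : G)
  have hw : orderOf w = 11 := by rw [Subgroup.orderOf_coe, hw0]
  have hwt : Commute w t := Subgroup.mem_centralizer_singleton_iff.1 w0.2
  have b22 : Nat.card ↥(Subgroup.centralizer ({w * t} : Set G)) = 22 := by
    rw [cent_prod hwt (by rw [hw, ht]; norm_num), inf_comm]
    exact (CfsgLib.JankoFour.Eleven.t_data hG hz ht htnc hw hwt).1.card_eq
  have b264 : Nat.card ↥(Subgroup.centralizer ({x * z} : Set G)) = 264 := by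
    rw [cent_prod hxz (by rw [hS.hx, hzo]; norm_num), inf_comm]
    exact hK264
  have c22 : HasClasses G [(22, 264), (22, 22)] := by
    refine ⟨![x * z, w * t], fun k => ?_, fun k l hkl => ?_⟩
    · fin_cases k
      · exact ⟨(orderOf_prod hxz (by rw [hS.hx, hzo]; norm_num)).trans (by simp [hS.hx, hzo]), b264.le⟩
      · exact ⟨(orderOf_prod hwt (by rw [hw, ht]; norm_num)).trans (by simp [hw, ht]), b22.le⟩
    · have hn : ¬ IsConj (x * z) (w * t) := fun e => by
        have := card_cent_of_isConj e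
        rw [b264, b22] at this
        norm_num at this
      fin_cases k <;> fin_cases l
      exacts [rfl, absurd hkl hn, absurd hkl.symm hn, rfl]
  have c44 : HasClasses G [(44, 44)] :=
    hasClasses_one ((orderOf_prod hix (by rw [hS.hx, hio]; norm_num)).trans (by simp [hS.hx, hio])) b44
  have c33 : HasClasses G [(33, 66), (33, 66)] := by
    refine ⟨![x * y, x * y⁻¹], fun k => ?_, fun k l hkl => ?_⟩
    · fin_cases k
      · refine ⟨(orderOf_prod hxy (by rw [hS.hx, hy]; norm_num)).trans (by simp [hS.hx, hy]), ?_⟩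
        show Nat.card ↥(Subgroup.centralizer ({x * y} : Set G)) ≤ 66
        rw [cent_prod hxy (by rw [hS.hx, hy]; norm_num)]
        exact hD66
      · refine ⟨(orderOf_prod hxyi (by rw [hS.hx, hyio]; norm_num)).trans (by simp [hS.hx, hyio]), ?_⟩
        show Nat.card ↥(Subgroup.centralizer ({x * y⁻¹} : Set G)) ≤ 66
        rw [cent_prod hxyi (by rw [hS.hx, hyio]; norm_num), hcy]
        exact hD66
    · have hn : ¬ IsConj (x * y) (x * y⁻¹) := fun e => by
        obtain ⟨g, hg⟩ := isConj_iff.1 e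
        obtain ⟨h1, h2⟩ := conj_parts hxy hxyi rfl (by rw [hyio, hy]) (by rw [hS.hx, hy]; norm_num) hg
        exact hne g h1 h2
      fin_cases k <;> fin_cases l
      exacts [rfl, absurd hkl hn, absurd hkl.symm hn, rfl]
  have c66 : HasClasses G [(66, 66), (66, 66)] := by
    have h1 : Commute x (y * z) := hxy.mul_right hxz
    have h2 : Commute x (y⁻¹ * z) := hxyi.mul_right hxz
    refine ⟨![x * (y * z), x * (y⁻¹ * z)], fun k => ?_, fun k l hkl => ?_⟩
    · fin_cases k
      · refine ⟨(orderOf_prod h1 (by rw [hS.hx, ho6.1]; norm_num)).trans (by simp [hS.hx, ho6.1]), ?_⟩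
        show Nat.card ↥(Subgroup.centralizer ({x * (y * z)} : Set G)) ≤ 66
        rw [cent_prod h1 (by rw [hS.hx, ho6.1]; norm_num), cent_prod hyz' (by rw [hy, hzo]; norm_num)]
        exact (Subgroup.card_le_of_le (inf_le_inf_left _ inf_le_left)).trans hD66
      · refine ⟨(orderOf_prod h2 (by rw [hS.hx, ho6.2]; norm_num)).trans (by simp [hS.hx, ho6.2]), ?_⟩
        show Nat.card ↥(Subgroup.centralizer ({x * (y⁻¹ * z)} : Set G)) ≤ 66
        rw [cent_prod h2 (by rw [hS.hx, ho6.2]; norm_num), cent_prod hyz'.inv_left (by rw [hyio, hzo]; norm_num),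
          hcy]
        exact (Subgroup.card_le_of_le (inf_le_inf_left _ inf_le_left)).trans hD66
    · have hn : ¬ IsConj (x * (y * z)) (x * (y⁻¹ * z)) := fun e => by
        obtain ⟨g, hg⟩ := isConj_iff.1 e
        obtain ⟨e1, e2⟩ := conj_parts h1 h2 rfl (by rw [ho6.1, ho6.2]) (by rw [hS.hx, ho6.1]; norm_num) hg
        exact hne g e1 (conj_parts hyz' hyz'.inv_left (by rw [hyio, hy]) rfl (by rw [hy, hzo]; norm_num) e2).1
      fin_cases k <;> fin_cases l
      exacts [rfl, absurd hkl hn, absurd hkl.symm hn, rfl]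
  exact ((c22.append c44 (by decide)).append c33 (by decide)).append c66 (by decide)

include hG in
theorem seven_eleven_classes (hJ : IsOfJankoFourType G) (hord : Nat.card G = ord) :
    HasClasses G sevenElevenTable := by
  obtain ⟨z, hz⟩ := id hJ
  exact (seven_classes hG hz).append (eleven_classes hG hJ hord) (by decide)

end CfsgLib.JankoFourClasses
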