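import Mathlib

/-!
Counting conjugacy classes from representatives with bounded centralisers, and the table of the classes of a
group of Janko-four type (owner: helper8).
-/

set_option autoImplicit false
set_option maxRecDepth 8000

namespace CfsgLib.JankoFourClasses

variable {G : Type*} [Group G]

/-- Pairwise non-conjugate elements with the orders and with centraliser orders at most as listed. -/
def HasClasses (G : Type*) [Group G] (L : List (ℕ × ℕ)) : Prop :=
  ∃ x : Fin L.length → G, (∀ i, orderOf (x i) = (L[i]).1 ∧
      Nat.card ↥(Subgroup.centralizer ({x i} : Set G)) ≤ (L[i]).2) ∧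
    ∀ i j, IsConj (x i) (x j) → i = j

theorem orderOf_eq_of_isConj {a b : G} (h : IsConj a b) : orderOf a = orderOf b := by
  obtain ⟨c, hc⟩ := isConj_iff.1 h
  rw [← hc]
  exact ((MulAut.conj c).orderOf_eq a).symm

theorem HasClasses.nil : HasClasses G [] := ⟨fun i => i.elim0, fun i => i.elim0, fun i => i.elim0⟩

theorem HasClasses.append {L L' : List (ℕ × ℕ)} (h : HasClasses G L) (h' : HasClasses G L')
    (hd : ∀ p ∈ L, ∀ q ∈ L', p.1 ≠ q.1) : HasClasses G (L ++ L') := by
  obtain ⟨x, hx, hxi⟩ := h
  obtain ⟨y, hy, hyi⟩ := h'
  have hlen : (L ++ L').length = L.length + L'.length := List.length_append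
  refine ⟨fun i => if h : (i : ℕ) < L.length then x ⟨i, h⟩ else y ⟨(i : ℕ) - L.length, by omega⟩, fun i => ?_,
    fun i j hij => ?_⟩
  · by_cases h : (i : ℕ) < L.length
    · have := hx ⟨i, h⟩
      simpa [h, List.getElem_append_left h] using this
    · have := hy ⟨(i : ℕ) - L.length, by omega⟩
      simpa [h, List.getElem_append_right (not_lt.1 h)] using this
  · have o := orderOf_eq_of_isConj hij
    by_cases hi : (i : ℕ) < L.length <;> by_cases hj : (j : ℕ) < L.length <;>
      simp only [hi, hj, dite_true, dite_false] at hij o
    · exact Fin.ext (congrArg Fin.val (hxi _ _ hij) :)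
    · rw [(hx _).1, (hy _).1] at o
      exact absurd o (hd _ (List.getElem_mem _) _ (List.getElem_mem _))
    · rw [(hy _).1, (hx _).1] at o
      exact absurd o.symm (hd _ (List.getElem_mem _) _ (List.getElem_mem _))
    · have e : (i : ℕ) - L.length = (j : ℕ) - L.length := (congrArg Fin.val (hyi _ _ hij) :)
      exact Fin.ext (by omega)

/-- Representatives whose class sizes add up to the order of the group meet every class. -/
theorem card_conjClasses [Finite G] {L : List (ℕ × ℕ)} (h : HasClasses G L)
    (hsum : Nat.card G ≤ (L.map fun p => Nat.card G / p.2).sum) : Nat.card (ConjClasses G) = L.length := by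
  classical
  haveI := Fintype.ofFinite G
  obtain ⟨x, hx, hxi⟩ := h
  let f : Fin L.length → ConjClasses G := fun i => ConjClasses.mk (x i)
  have hf : Function.Injective f := fun i j e => hxi i j (ConjClasses.mk_eq_mk_iff_isConj.1 e)
  suffices hs : Function.Surjective f by
    rw [← Nat.card_congr (Equiv.ofBijective f ⟨hf, hs⟩), Nat.card_fin]
  by_contra hns
  simp only [Function.Surjective, not_forall, not_exists] at hns
  obtain ⟨c, hc⟩ := hns
  obtain ⟨g, rfl⟩ := ConjClasses.exists_rep c
  have hsize : ∀ i, Nat.card G / (L[i]).2 ≤ Nat.card (ConjClasses.carrier (f i)) := by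
    intro i
    have h2 : Nat.card (ConjClasses.carrier (f i)) * Nat.card ↥(Subgroup.centralizer ({x i} : Set G)) =
        Nat.card G := by
      have h := MulAction.card_orbit_mul_card_stabilizer_eq_card_group (ConjAct G) (x i)
      rw [← Nat.card_eq_fintype_card, ← Nat.card_eq_fintype_card, ← Nat.card_eq_fintype_card,
        ConjAct.orbit_eq_carrier_conjClasses, Nat.card_congr ConjAct.toConjAct.toEquiv.symm,
        Nat.card_congr (Equiv.subtypeEquiv ConjAct.ofConjAct.toEquiv fun k => ?_)] at h
      · exact h
      · rw [Subgroup.mem_centralizer_singleton_iff]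
        show k • x i = x i ↔ ConjAct.ofConjAct k * x i = x i * ConjAct.ofConjAct k
        rw [ConjAct.smul_def, mul_inv_eq_iff_eq_mul]
    refine Nat.div_le_of_le_mul ?_
    rw [← h2, mul_comm (L[i]).2]
    exact Nat.mul_le_mul_left _ (hx i).2
  have hlist : (L.map fun p => Nat.card G / p.2).sum = ∑ i : Fin L.length, Nat.card G / (L[i]).2 := by
    conv_lhs => rw [← List.ofFn_getElem (xs := L), List.map_ofFn, List.sum_ofFn]
    rfl
  have hdisj : Set.PairwiseDisjoint ((Finset.univ : Finset (Fin L.length)) : Set (Fin L.length))
      (fun i => (ConjClasses.carrier (f i)).toFinset) := fun i _ j _ hij => by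
    refine Finset.disjoint_left.2 fun a ha hb => hij (hf ?_)
    rw [Set.mem_toFinset, ConjClasses.mem_carrier_iff_mk_eq] at ha hb
    exact ha.symm.trans hb
  set U := Finset.univ.biUnion fun i => (ConjClasses.carrier (f i)).toFinset with hU
  have hg : g ∉ U := by
    rw [hU, Finset.mem_biUnion]
    rintro ⟨i, -, hi⟩
    rw [Set.mem_toFinset, ConjClasses.mem_carrier_iff_mk_eq] at hi
    exact hc i hi.symm
  have hcard : U.card = ∑ i, Nat.card (ConjClasses.carrier (f i)) := by
    rw [hU, Finset.card_biUnion hdisj]
    exact Finset.sum_congr rfl fun i _ => by rw [Nat.card_eq_card_toFinset]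
  have hlt : U.card < Fintype.card G := Finset.card_lt_iff_ne_univ _ |>.2 fun e => hg (e ▸ Finset.mem_univ g)
  have := (hlist ▸ hsum).trans ((Finset.sum_le_sum fun i _ => hsize i).trans hcard.ge)
  rw [Nat.card_eq_fintype_card] at this
  omega

/-- The order. -/
def ord : ℕ := 2 ^ 21 * 3 ^ 3 * 5 * 7 * 11 ^ 3 * 23 * 29 * 31 * 37 * 43

/-- Classes of the nontrivial elements of order a power of two. -/
def twoTable : List (ℕ × ℕ) :=
  [(2, 21799895040), (2, 1816657920), (4, 5406720), (4, 98304), (4, 43008), (8, 1280), (8, 768), (8, 512),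
    (16, 32)]

/-- The identity and the classes of elements of prime order at least five and of order three. -/
def primeTable : List (ℕ × ℕ) :=
  [(1, ord), (3, 2661120), (5, 6720), (7, 840), (7, 840), (11, 31944), (11, 242), (23, 23), (29, 29),
    (31, 31), (31, 31), (31, 31), (37, 37), (37, 37), (37, 37), (43, 43), (43, 43), (43, 43)]

/-- Classes of elements of composite order with a part of order three, five and no seven or eleven. -/
def threeFiveTable : List (ℕ × ℕ) :=
  [(6, 2661120), (6, 2304), (6, 2304), (12, 192), (12, 192), (12, 48), (24, 48), (24, 48), (10, 960), (10, 80),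
    (20, 160), (20, 160), (40, 40), (40, 40), (15, 30), (30, 30)]

/-- Classes of elements of composite order divisible by seven or eleven. -/
def sevenElevenTable : List (ℕ × ℕ) :=
  [(14, 84), (14, 84), (14, 56), (14, 56), (28, 28), (28, 28), (21, 42), (21, 42), (35, 35), (35, 35), (42, 42),
    (42, 42), (22, 264), (22, 22), (44, 44), (33, 66), (33, 66), (66, 66), (66, 66)]

theorem tables_sum :
    ((twoTable ++ primeTable ++ threeFiveTable ++ sevenElevenTable).map fun p => ord / p.2).sum = ord ∧
      (twoTable ++ primeTable ++ threeFiveTable ++ sevenElevenTable).length = 62 := by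
  decide +kernel

theorem sixty_two [Finite G] (hord : Nat.card G = ord) (h2 : HasClasses G twoTable)
    (hp : HasClasses G primeTable) (h35 : HasClasses G threeFiveTable)
    (h711 : HasClasses G sevenElevenTable) : Nat.card (ConjClasses G) = 62 := by
  obtain ⟨hs, hl⟩ := tables_sum
  have h := ((h2.append hp (by decide)).append h35 (by decide)).append h711 (by decide)
  rw [card_conjClasses h (by rw [hord, hs]), hl]

end CfsgLib.JankoFourClasses
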