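import Cfsg.Agent.Lib.JankoFourClasses.Table
import Cfsg.Agent.Lib.JankoFourLocals.Sylow

/-!
Classes of generators of a cyclic subgroup and of products of commuting elements of coprime orders
(owner: helper8).
-/

set_option autoImplicit false

namespace CfsgLib.JankoFourClasses

open CfsgLib.JankoFourLocals

variable {G : Type*} [Group G] [Finite G]

/-- Many classes among the generators of a cyclic subgroup with small automiser. -/
theorem exists_nonconj {n k e : ℕ} {y : G} (hy : orderOf y = n) (he : autCard (Subgroup.zpowers y) ≤ e)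
    (hk : (k - 1) * e < Nat.totient n) :
    ∃ x : Fin k → G, (∀ i, orderOf (x i) = n ∧ Subgroup.zpowers (x i) = Subgroup.zpowers y) ∧
      ∀ i j, IsConj (x i) (x j) → i = j := by
  classical
  haveI := Fintype.ofFinite G
  set U := Subgroup.zpowers y with hU
  set T : Finset G := Finset.univ.filter fun a => Subgroup.zpowers a = U with hT
  have hTn : Nat.totient n ≤ T.card := by
    rw [Nat.totient, ← Finset.card_image_of_injOn (f := fun i => y ^ i) (s := (Finset.range n).filter n.Coprime)]
    · refine Finset.card_le_card fun a ha => ?_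
      obtain ⟨i, hi, rfl⟩ := Finset.mem_image.1 ha
      rw [hT, Finset.mem_filter]
      refine ⟨Finset.mem_univ _, Subgroup.eq_of_le_of_card_ge (Subgroup.zpowers_le.2
        (Subgroup.pow_mem _ (Subgroup.mem_zpowers y) i)) ?_⟩
      rw [hU, Nat.card_zpowers, Nat.card_zpowers, Nat.Coprime.orderOf_pow (hy ▸ (Finset.mem_filter.1 hi).2)]
    · intro i hi j hj h
      have hi' := (Finset.mem_range.1 (Finset.mem_filter.1 hi).1)
      have hj' := (Finset.mem_range.1 (Finset.mem_filter.1 hj).1)
      have := pow_eq_pow_iff_modEq.1 h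
      rw [hy, Nat.ModEq, Nat.mod_eq_of_lt hi', Nat.mod_eq_of_lt hj'] at this
      exact this
  have hfib : ∀ a ∈ T, (T.filter fun b => ConjClasses.mk b = ConjClasses.mk a).card ≤ e := by
    intro a ha
    have haU : Subgroup.zpowers a = U := (Finset.mem_filter.1 ha).2
    let D := (cent U).subgroupOf (norm' U)
    let f : ↥(norm' U) ⧸ D → G := fun q => (q.out : G) * a * (q.out : G)⁻¹
    have : Fintype (↥(norm' U) ⧸ D) := Fintype.ofFinite _
    refine le_trans (Finset.card_le_card (t := Finset.univ.image f) fun b hb => ?_) ?_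
    · obtain ⟨hbT, hba⟩ := Finset.mem_filter.1 hb
      obtain ⟨g, hg⟩ := isConj_iff.1 (ConjClasses.mk_eq_mk_iff_isConj.1 hba.symm)
      have hgN : g ∈ norm' U := by
        rw [mem_norm_iff, ← haU, cj, MonoidHom.map_zpowers]
        show Subgroup.zpowers (g * a * g⁻¹) = _
        rw [hg, (Finset.mem_filter.1 hbT).2, haU]
      refine Finset.mem_image.2 ⟨QuotientGroup.mk ⟨g, hgN⟩, Finset.mem_univ _, ?_⟩
      obtain ⟨d, hd⟩ := QuotientGroup.mk_out_eq_mul D (⟨g, hgN⟩ : ↥(norm' U))
      have hc : Commute ((d : ↥(norm' U)) : G) a :=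
        commute_of_mem_cent (Subgroup.mem_subgroupOf.1 d.2) (haU ▸ Subgroup.mem_zpowers a)
      show ((QuotientGroup.mk ⟨g, hgN⟩ : ↥(norm' U) ⧸ D).out : G) * a * _ = b
      rw [hd, Subgroup.coe_mul, ← hg, mul_inv_rev,
        show g * ((d : ↥(norm' U)) : G) * a * (((d : ↥(norm' U)) : G)⁻¹ * g⁻¹) =
          g * (((d : ↥(norm' U)) : G) * a * ((d : ↥(norm' U)) : G)⁻¹) * g⁻¹ by group, hc.eq, mul_inv_cancel_right]
    · refine Finset.card_image_le.trans (le_trans (le_of_eq ?_) he)
      rw [Finset.card_univ, ← Nat.card_eq_fintype_card, ← Subgroup.index_eq_card]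
      rfl
  have hcard := Finset.card_le_mul_card_image (f := ConjClasses.mk) T e fun c hc => by
    obtain ⟨a, ha, rfl⟩ := Finset.mem_image.1 hc
    exact hfib a ha
  have hk' : k ≤ (T.image ConjClasses.mk).card := by
    by_contra hlt
    have := Nat.mul_le_mul_left e (Nat.le_sub_one_of_lt (not_le.1 hlt))
    rw [mul_comm e (k - 1)] at this
    omega
  obtain ⟨g⟩ := Function.Embedding.nonempty_of_card_le (α := Fin k) (β := ↥(T.image ConjClasses.mk))
    (by rw [Fintype.card_fin, Fintype.card_coe]; exact hk')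
  choose r hr using fun i => Finset.mem_image.1 (g i).2
  have hrU : ∀ i, Subgroup.zpowers (r i) = U := fun i => (Finset.mem_filter.1 (hr i).1).2
  refine ⟨r, fun i => ⟨by rw [← Nat.card_zpowers, hrU, hU, Nat.card_zpowers, hy], hrU i⟩, fun i j hij => ?_⟩
  refine g.injective (Subtype.ext ?_)
  rw [← (hr i).2, ← (hr j).2, ConjClasses.mk_eq_mk_iff_isConj]
  exact hij

omit [Finite G] in
/-- The parts of a product of commuting elements of coprime orders are powers of it. -/
theorem exists_part {m n : ℕ} (hmn : Nat.Coprime m n) :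
    ∃ e f : ℕ, ∀ a s : G, Commute a s → orderOf a = m → orderOf s = n →
      (a * s) ^ e = a ∧ (a * s) ^ f = s := by
  obtain ⟨e, he1, he0⟩ := Nat.chineseRemainder hmn 1 0
  obtain ⟨f, hf0, hf1⟩ := Nat.chineseRemainder hmn 0 1
  refine ⟨e, f, fun a s hc ha hs => ⟨?_, ?_⟩⟩
  · rw [hc.mul_pow, pow_eq_pow_iff_modEq.2 (show e ≡ 1 [MOD orderOf a] by rw [ha]; exact he1), pow_one,
      pow_eq_pow_iff_modEq.2 (show e ≡ 0 [MOD orderOf s] by rw [hs]; exact he0), pow_zero, mul_one]
  · rw [hc.mul_pow, pow_eq_pow_iff_modEq.2 (show f ≡ 0 [MOD orderOf a] by rw [ha]; exact hf0), pow_zero, one_mul,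
      pow_eq_pow_iff_modEq.2 (show f ≡ 1 [MOD orderOf s] by rw [hs]; exact hf1), pow_one]

omit [Finite G] in
/-- The centraliser of such a product. -/
theorem cent_prod {a s : G} (hc : Commute a s) (hco : Nat.Coprime (orderOf a) (orderOf s)) :
    Subgroup.centralizer ({a * s} : Set G) =
      Subgroup.centralizer ({a} : Set G) ⊓ Subgroup.centralizer ({s} : Set G) := by
  obtain ⟨e, f, h⟩ := exists_part (G := G) hco
  obtain ⟨he, hf⟩ := h a s hc rfl rfl
  ext g
  simp only [Subgroup.mem_inf, Subgroup.mem_centralizer_singleton_iff]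
  constructor
  · intro hg
    have hg' : Commute g (a * s) := hg
    exact ⟨he ▸ (hg'.pow_right e).eq, hf ▸ (hg'.pow_right f).eq⟩
  · rintro ⟨h1, h2⟩
    exact (Commute.mul_right (h1 : Commute g a) h2).eq

omit [Finite G] in
/-- Conjugacy of such products. -/
theorem conj_parts {a s b u : G} (hc : Commute a s) (hc' : Commute b u) (ha : orderOf b = orderOf a)
    (hs : orderOf u = orderOf s) (hco : Nat.Coprime (orderOf a) (orderOf s)) {g : G}
    (hg : g * (a * s) * g⁻¹ = b * u) : g * a * g⁻¹ = b ∧ g * s * g⁻¹ = u := by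
  obtain ⟨e, f, h⟩ := exists_part (G := G) hco
  obtain ⟨he, hf⟩ := h a s hc rfl rfl
  obtain ⟨he', hf'⟩ := h b u hc' ha hs
  constructor
  · calc g * a * g⁻¹ = g * (a * s) ^ e * g⁻¹ := by rw [he]
      _ = b := by rw [← conj_pow, hg, he']
  · calc g * s * g⁻¹ = g * (a * s) ^ f * g⁻¹ := by rw [hf]
      _ = u := by rw [← conj_pow, hg, hf']

end CfsgLib.JankoFourClasses
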